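import Mathlib

/-!
The arithmetic of two or four integral columns of norm nine.
-/

set_option autoImplicit false

namespace Cfsg.Agent.Block.NineCC

variable {ι : Type*} [Fintype ι] [DecidableEq ι]

/-- Two orthogonal columns of norm nine, congruent modulo three and containing the row `(1, 1)`. -/
structure Pair (t₀ : ι) (d u v : ι → ℤ) : Prop where
  u0 : u t₀ = 1
  v0 : v t₀ = 1
  congr : ∀ i, (3 : ℤ) ∣ u i - v i
  uu : ∑ i, u i * u i = 9
  vv : ∑ i, v i * v i = 9
  uv : ∑ i, u i * v i = 0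
  ud : ∑ i, u i * d i = 0
  vd : ∑ i, v i * d i = 0

theorem exc_shape : ∀ a b : ℤ, a * a ≤ 8 → b * b ≤ 8 → (a - b) * (a - b) = 9 →
    a * b = -2 ∧ ((a * a = 1 ∧ b = -2 * a) ∨ (b * b = 1 ∧ a = -2 * b)) := by
  intro a b ha hb hab
  have h1 : -2 ≤ a ∧ a ≤ 2 := ⟨by nlinarith, by nlinarith⟩
  have h2 : -2 ≤ b ∧ b ≤ 2 := ⟨by nlinarith, by nlinarith⟩
  obtain ⟨h1, h1'⟩ := h1
  obtain ⟨h2, h2'⟩ := h2
  interval_cases a <;> interval_cases b <;> simp_all

/-- The rows of a pair of columns. -/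
theorem Pair.exists_rows {t₀ : ι} {d u v : ι → ℤ} (h : Pair t₀ d u v) :
    ∃ P Q : ι, P ≠ Q ∧ P ≠ t₀ ∧ Q ≠ t₀ ∧ u P * u P = 1 ∧ v P = -2 * u P ∧
      v Q * v Q = 1 ∧ u Q = -2 * v Q ∧ u P * d P = v Q * d Q ∧
      (∀ i, i ≠ P → i ≠ Q → u i = v i ∧ u i * u i ≤ 1) ∧
      (Finset.univ.filter fun i => u i ≠ 0).card = 6 := by
  classical
  set s := Finset.univ.filter fun i => u i ≠ v i with hs
  have hmem : ∀ i, i ∈ s ↔ u i ≠ v i := fun i => by simp [hs]
  have hd2 : ∑ i, (u i - v i) * (u i - v i) = 18 := by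
    have e : ∀ i, (u i - v i) * (u i - v i) = u i * u i + v i * v i - 2 * (u i * v i) :=
      fun i => by ring
    rw [Finset.sum_congr rfl fun i _ => e i, Finset.sum_sub_distrib, Finset.sum_add_distrib,
      ← Finset.mul_sum, h.uu, h.vv, h.uv]
    norm_num
  have hsum : ∑ i ∈ s, (u i - v i) * (u i - v i) = 18 := by
    rw [← hd2]
    refine Finset.sum_subset (Finset.subset_univ _) fun i _ hi => ?_
    rw [hmem, not_not] at hi
    rw [hi, sub_self, mul_zero]
  have hnine : ∀ i ∈ s, ∃ k : ℤ, k ≠ 0 ∧ (u i - v i) * (u i - v i) = 9 * (k * k) := by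
    intro i hi
    obtain ⟨k, hk⟩ := h.congr i
    exact ⟨k, fun e => (hmem i).mp hi (by rw [e, mul_zero] at hk; linarith), by rw [hk]; ring⟩
  have hge : ∀ i ∈ s, 9 ≤ (u i - v i) * (u i - v i) := fun i hi => by
    obtain ⟨k, hk, e⟩ := hnine i hi
    have : 0 < k * k := mul_self_pos.mpr hk
    linarith
  have hcard2 : s.card = 2 := by
    have h1 := Finset.card_nsmul_le_sum s _ 9 hge
    rw [hsum, nsmul_eq_mul] at h1
    have h2 : s.card ≤ 2 := by
      have : (s.card : ℤ) ≤ 2 := by linarith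
      exact_mod_cast this
    have h0 : s.card ≠ 0 := fun e => by
      rw [Finset.card_eq_zero.mp e, Finset.sum_empty] at hsum
      omega
    have h1' : s.card ≠ 1 := fun e => by
      obtain ⟨i, hi⟩ := Finset.card_eq_one.mp e
      obtain ⟨k, hk, hk'⟩ := hnine i (hi ▸ Finset.mem_singleton_self i)
      rw [hi, Finset.sum_singleton, hk'] at hsum
      have hk2 : k * k = 2 := by linarith
      have h1 : k ≤ 1 := by nlinarith
      have h2 : -1 ≤ k := by nlinarith
      interval_cases k <;> omega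
    omega
  obtain ⟨P₁, P₂, hne, hse⟩ := Finset.card_eq_two.mp hcard2
  have m1 : P₁ ∈ s := hse ▸ Finset.mem_insert_self _ _
  have m2 : P₂ ∈ s := hse ▸ Finset.mem_insert_of_mem (Finset.mem_singleton_self _)
  rw [hse, Finset.sum_pair hne] at hsum
  have d1 : (u P₁ - v P₁) * (u P₁ - v P₁) = 9 := by linarith [hge _ m1, hge _ m2]
  have d2 : (u P₂ - v P₂) * (u P₂ - v P₂) = 9 := by linarith [hge _ m1, hge _ m2]
  have ht0 : t₀ ∉ s := by simp [hmem, h.u0, h.v0]
  set R := ∑ i ∈ sᶜ, u i * u i with hR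
  have hrest : ∀ i ∈ sᶜ, u i = v i := fun i hi => by
    have := Finset.mem_compl.mp hi
    rwa [hmem, not_not] at this
  have hRv : ∑ i ∈ sᶜ, v i * v i = R := Finset.sum_congr rfl fun i hi => by rw [hrest i hi]
  have hRuv : ∑ i ∈ sᶜ, u i * v i = R := Finset.sum_congr rfl fun i hi => by rw [hrest i hi]
  have euu := h.uu
  have evv := h.vv
  have euv := h.uv
  rw [← Finset.sum_add_sum_compl s, hse, Finset.sum_pair hne, ← hse] at euu evv euv
  rw [← hR] at euu
  rw [hRv] at evv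
  rw [hRuv] at euv
  have hR1 : 1 ≤ R := by
    have := Finset.single_le_sum (f := fun i => u i * u i) (fun i _ => mul_self_nonneg _)
      (Finset.mem_compl.mpr ht0)
    simpa [h.u0] using this
  obtain ⟨p1, s1⟩ := exc_shape (u P₁) (v P₁) (by nlinarith) (by nlinarith) d1
  obtain ⟨p2, s2⟩ := exc_shape (u P₂) (v P₂) (by nlinarith) (by nlinarith) d2
  have hR4 : R = 4 := by linarith
  have hle : ∀ i ∈ sᶜ, u i * u i ≤ 1 := by
    intro i hi
    by_cases e : i = t₀
    · simp [e, h.u0]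
    · have h2 := Finset.sum_le_sum_of_subset_of_nonneg
        (f := fun i => u i * u i) (s := {i, t₀}) (t := sᶜ)
        (Finset.insert_subset_iff.mpr ⟨hi, Finset.singleton_subset_iff.mpr
          (Finset.mem_compl.mpr ht0)⟩) (fun x _ _ => mul_self_nonneg _)
      rw [Finset.sum_pair e, h.u0, ← hR, hR4] at h2
      have h1 : u i ≤ 1 := by nlinarith
      have h1' : -1 ≤ u i := by nlinarith
      nlinarith
  have hcard : (Finset.univ.filter fun i => u i ≠ 0).card = 6 := by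
    have e1 : ∑ i ∈ sᶜ, u i * u i = ∑ i ∈ sᶜ, if u i ≠ 0 then (1 : ℤ) else 0 := by
      refine Finset.sum_congr rfl fun i hi => ?_
      split_ifs with e
      · have := mul_self_pos.mpr e
        linarith [hle i hi]
      · rw [not_not] at e
        rw [e, mul_zero]
    rw [← hR, hR4] at e1
    have e2 : ∑ i, (if u i ≠ 0 then (1 : ℤ) else 0) = 6 := by
      rw [← Finset.sum_add_sum_compl s, ← e1, hse, Finset.sum_pair hne, if_pos, if_pos]
      · norm_num
      · intro e; rw [e, zero_mul] at p2; omega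
      · intro e; rw [e, zero_mul] at p1; omega
    rw [Finset.sum_boole] at e2
    exact_mod_cast e2
  have heq : (u P₁ - v P₁) * d P₁ + (u P₂ - v P₂) * d P₂ = 0 := by
    have hh : ∑ i, (u i - v i) * d i = 0 := by
      simp only [sub_mul, Finset.sum_sub_distrib, h.ud, h.vd, sub_zero]
    rw [← Finset.sum_add_sum_compl s, Finset.sum_eq_zero (s := sᶜ) fun i hi =>
      (by rw [hrest i hi, sub_self, zero_mul] : (u i - v i) * d i = 0), add_zero, hse,
      Finset.sum_pair hne] at hh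
    exact hh
  have hout : ∀ i, i ≠ P₁ → i ≠ P₂ → u i = v i ∧ u i * u i ≤ 1 := fun i a b => by
    have hi : i ∈ sᶜ := by simp [hse, a, b]
    exact ⟨hrest i hi, hle i hi⟩
  have n1 : P₁ ≠ t₀ := fun e => ht0 (e ▸ m1)
  have n2 : P₂ ≠ t₀ := fun e => ht0 (e ▸ m2)
  rcases s1 with ⟨a1, b1⟩ | ⟨a1, b1⟩ <;> rcases s2 with ⟨a2, b2⟩ | ⟨a2, b2⟩
  · exfalso; linarith
  · refine ⟨P₁, P₂, hne, n1, n2, a1, b1, a2, b2, ?_, hout, hcard⟩
    rw [b1, b2] at heq
    linarith
  · refine ⟨P₂, P₁, hne.symm, n2, n1, a2, b2, a1, b1, ?_, fun i a b => hout i b a, hcard⟩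
    rw [b1, b2] at heq
    linarith
  · exfalso; linarith

theorem sign_div {e : ℤ} (he : e * e = 1) (d : ℤ) : (e : ℚ) / d = 1 / ((e * d : ℤ) : ℚ) := by
  rcases mul_self_eq_one_iff.mp he with rfl | rfl <;> push_cast <;> ring

theorem sign_mul_eq_one {e d : ℤ} (he : e * e = 1) (hd : 0 < d) (h : e * d = 1) :
    d = 1 ∧ e = 1 := by
  rcases mul_self_eq_one_iff.mp he with rfl | rfl <;> omega

theorem eq_one_of_mul_self {e : ℤ} (h : e * e ≤ 1) (h0 : e ≠ 0) : e * e = 1 := by
  have := mul_self_pos.mpr h0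
  linarith

/-- Four columns. -/
theorem four_columns {t₀ : ι} {d : ι → ℤ} {v : Fin 4 → ι → ℤ} (hd : ∀ i, 0 < d i) (hd0 : d t₀ = 1)
    (hp : ∀ l m, l ≠ m → Pair t₀ d (v l) (v m))
    (heq : ∑ i, ((v 0 i : ℚ) * v 0 i * v 1 i) / d i = 0) :
    ∃ χ, χ ≠ t₀ ∧ d χ = 1 ∧ ∀ l, v l χ = 1 := by
  classical
  have hu : ∀ l : Fin 4, ∃ E, ∀ i, v l i * v l i = 4 ↔ i = E := by
    intro l
    obtain ⟨m, hm⟩ : ∃ m, l ≠ m := by
      obtain ⟨m, hm⟩ := exists_ne l
      exact ⟨m, hm.symm⟩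
    obtain ⟨P, Q, hPQ, -, -, a, b, c, e, -, ho, -⟩ := (hp l m hm).exists_rows
    refine ⟨Q, fun i => ⟨fun hi => ?_, fun hi => ?_⟩⟩
    · by_contra hne
      by_cases hiP : i = P
      · rw [hiP, a] at hi; omega
      · have := (ho i hiP hne).2; omega
    · rw [hi, e]; linarith
  choose E hE using hu
  have hE' : ∀ l, v l (E l) * v l (E l) = 4 := fun l => (hE l _).mpr rfl
  have key : ∀ l m, l ≠ m → v l (E l) = -2 * v m (E l) ∧ v m (E l) * v m (E l) = 1 ∧
      v m (E l) * d (E l) = v l (E m) * d (E m) ∧ E l ≠ E m ∧ E l ≠ t₀ ∧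
      (∀ i, i ≠ E l → i ≠ E m → v l i = v m i) ∧
      (Finset.univ.filter fun i => v l i ≠ 0).card = 6 := by
    intro l m hlm
    obtain ⟨P, Q, hPQ, hP, hQ, a, b, c, e, f, ho, hc⟩ := (hp l m hlm).exists_rows
    have hQ' : Q = E l := (hE l Q).mp (by rw [e]; linarith)
    have hP' : P = E m := (hE m P).mp (by rw [b]; linarith)
    subst hQ' hP'
    exact ⟨e, c, f.symm, hPQ.symm, hQ, fun i p q => (ho i q p).1, hc⟩
  let e : Fin 4 → ℤ := fun l => -(v l (E l)) / 2
  have he : ∀ l m, l ≠ m → v m (E l) = e l := by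
    intro l m hlm
    show _ = -(v l (E l)) / 2
    rw [(key l m hlm).1]
    omega
  have hel : ∀ l, v l (E l) = -2 * e l := fun l => by
    obtain ⟨m, hm⟩ := exists_ne l
    rw [← he l m hm.symm, (key l m hm.symm).1]
  have he1 : ∀ l, e l * e l = 1 := fun l => by
    obtain ⟨m, hm⟩ := exists_ne l
    rw [← he l m hm.symm]
    exact (key l m hm.symm).2.1
  have hD : ∀ l m, e l * d (E l) = e m * d (E m) := fun l m => by
    by_cases hlm : l = m
    · rw [hlm]
    · have := (key l m hlm).2.2.1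
      rwa [he l m hlm, he m l (Ne.symm hlm)] at this
  have hinj : Function.Injective E := fun l m hlm => by
    by_contra hne
    exact (key l m hne).2.2.2.1 hlm
  have ht : ∀ l, E l ≠ t₀ := fun l => by
    obtain ⟨m, hm⟩ := exists_ne l
    exact (key l m hm.symm).2.2.2.2.1
  set S := Finset.univ.filter fun i => v 0 i ≠ 0 with hS
  have hS6 : S.card = 6 := (key 0 1 (by decide)).2.2.2.2.2.2
  set B := insert t₀ (Finset.univ.image E) with hB
  have hB5 : B.card = 5 := by
    rw [hB, Finset.card_insert_of_notMem, Finset.card_image_of_injective _ hinj]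
    · simp
    · simp only [Finset.mem_image, Finset.mem_univ, true_and]
      rintro ⟨l, hl⟩
      exact ht l hl
  have hBS : B ⊆ S := by
    intro i hi
    simp only [hB, Finset.mem_insert, Finset.mem_image, Finset.mem_univ, true_and] at hi
    simp only [hS, Finset.mem_filter, Finset.mem_univ, true_and]
    rcases hi with rfl | ⟨l, rfl⟩
    · rw [(hp 0 1 (by decide)).u0]; exact one_ne_zero
    · intro hz
      by_cases hl : l = 0
      · subst hl
        have := hE' 0
        rw [hz] at this; omega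
      · have := he1 l
        rw [← he l 0 hl, hz] at this; omega
  obtain ⟨A, hA⟩ := Finset.card_eq_one.mp (by
    rw [Finset.card_sdiff_of_subset hBS, hS6, hB5] : (S \ B).card = 1)
  have hAm : A ∈ S \ B := hA ▸ Finset.mem_singleton_self A
  rw [Finset.mem_sdiff] at hAm
  have hA0 : A ≠ t₀ := fun hh => hAm.2 (hh ▸ Finset.mem_insert_self _ _)
  have hAE : ∀ l, A ≠ E l := fun l hh =>
    hAm.2 (Finset.mem_insert_of_mem (Finset.mem_image.mpr ⟨l, Finset.mem_univ _, hh.symm⟩))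
  have hAl : ∀ l, v l A = v 0 A := fun l => by
    by_cases hl : l = 0
    · rw [hl]
    · exact ((key l 0 hl).2.2.2.2.2.1 A (hAE l) (hAE 0))
  have hA1 : v 0 A * v 0 A = 1 := by
    obtain ⟨P, Q, -, -, -, a, b, c, f, -, ho, -⟩ := (hp 0 1 (by decide)).exists_rows
    refine eq_one_of_mul_self (ho A ?_ ?_).2 (Finset.mem_filter.mp hAm.1).2
    · intro hh
      exact hAE 1 ((hE 1 A).mp (by rw [hh, b]; linarith))
    · intro hh
      exact hAE 0 ((hE 0 A).mp (by rw [hh, f]; linarith))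
  have hsplit : ∀ {M : Type} [AddCommMonoid M] (F : ι → M), (∀ i, v 0 i = 0 → F i = 0) →
      ∑ i, F i = F A + (F t₀ + (F (E 0) + F (E 1) + F (E 2) + F (E 3))) := by
    intro M _ F hF
    rw [← Finset.sum_subset (Finset.subset_univ S) fun i _ hi => hF i (by simpa [hS] using hi),
      ← Finset.sum_sdiff hBS, hA, Finset.sum_singleton, hB, Finset.sum_insert,
      Finset.sum_image fun a _ b _ => @hinj a b, Fin.sum_univ_four]
    simp only [Finset.mem_image, Finset.mem_univ, true_and]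
    rintro ⟨l, hl⟩
    exact ht l hl
  have e1 := hsplit (fun i => v 0 i * d i) (fun i hi => by simp [hi])
  have e2 := hsplit (fun i => ((v 0 i : ℚ) * v 0 i * v 1 i) / d i) (fun i hi => by simp [hi])
  rw [(hp 0 1 (by decide)).ud] at e1
  rw [heq] at e2
  simp only [(hp 0 1 (by decide)).u0, (hp 0 1 (by decide)).v0, hd0, hel, hAl 1,
    he 1 0 (by decide), he 2 0 (by decide), he 3 0 (by decide), he 0 1 (by decide),
    he 2 1 (by decide), he 3 1 (by decide)] at e1 e2
  set D := e 0 * d (E 0) with hDdef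
  have k1 := hD 1 0
  have k2 := hD 2 0
  have k3 := hD 3 0
  rw [← hDdef] at k1 k2 k3
  have i1 : 0 = v 0 A * d A + 1 + D := by linarith
  have q : ∀ l, (e l : ℚ) / d (E l) = 1 / (D : ℚ) := fun l => by
    rw [sign_div (he1 l), hD l 0, hDdef]
  have sq : ∀ l, (e l : ℚ) * e l = 1 := fun l => by exact_mod_cast he1 l
  have sA : (v 0 A : ℚ) * v 0 A = 1 := by exact_mod_cast hA1
  push_cast at e2
  have i2 : 0 = 1 / ((v 0 A * d A : ℤ) : ℚ) + 1 + 4 / (D : ℚ) := by
    rw [← sign_div hA1]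
    have q0 := q 0
    have q1 := q 1
    have q2 := q 2
    have q3 := q 3
    rw [sA, sq 2, sq 3, sq 1] at e2
    linear_combination e2 + (4 * (e 0 : ℚ) * e 0) * q0 - 2 * q1 + q2 + q3 +
      (4 / (D : ℚ)) * sq 0
  set a := v 0 A * d A with ha
  have ha0 : (a : ℚ) ≠ 0 := by
    rw [ha]; push_cast
    exact mul_ne_zero (fun z => by rw [z] at sA; norm_num at sA)
      (by exact_mod_cast (hd A).ne')
  have hD0 : (D : ℚ) ≠ 0 := by
    rw [hDdef]; push_cast
    exact mul_ne_zero (fun z => by have := sq 0; rw [z] at this; norm_num at this)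
      (by exact_mod_cast (hd (E 0)).ne')
  field_simp at i2
  have i1' : (D : ℚ) = -1 - a := by
    have : D = -1 - a := by linarith
    exact_mod_cast this
  have h0 : ((a : ℚ) - 1) * ((a : ℚ) - 1) = 0 := by rw [i1'] at i2; linarith
  have ha1 : a = 1 := by exact_mod_cast sub_eq_zero.mp (mul_self_eq_zero.mp h0)
  obtain ⟨r1, r2⟩ := sign_mul_eq_one hA1 (hd A) ha1
  exact ⟨A, hA0, r1, fun l => (hAl l).trans r2⟩

theorem inv_ge {a : ℤ} (h9 : (9 : ℤ) ∣ a - 1) (h1 : a ≠ 1) : -(1 : ℚ) / 8 ≤ 1 / (a : ℚ) := by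
  rcases le_or_gt a 0 with h | h
  · have : a ≤ -8 := by omega
    have h' : (a : ℚ) ≤ -8 := by exact_mod_cast this
    rw [le_div_iff_of_neg (by linarith)]
    linarith
  · have : (0 : ℚ) < 1 / (a : ℚ) := by positivity
    linarith

theorem inv_ge' {a : ℤ} (h9 : (9 : ℤ) ∣ a - 4) : -(1 : ℚ) / 5 ≤ 1 / (a : ℚ) := by
  rcases le_or_gt a 0 with h | h
  · have : a ≤ -5 := by omega
    have h' : (a : ℚ) ≤ -5 := by exact_mod_cast this
    rw [le_div_iff_of_neg (by linarith)]
    linarith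
  · have : (0 : ℚ) < 1 / (a : ℚ) := by positivity
    linarith

/-- Two columns, each standing for two lines. -/
theorem two_columns {t₀ : ι} {d u v : ι → ℤ} (hd : ∀ i, 0 < d i) (hd0 : d t₀ = 1)
    (hp : Pair t₀ d u v) (h9 : ∀ i, (9 : ℤ) ∣ d i + 4 * u i + 4 * v i) :
    (∃ χ, χ ≠ t₀ ∧ d χ = 1 ∧ u χ = 1 ∧ v χ = 1) ∨
      (9 : ℚ) / 40 ≤ ∑ i, ((u i : ℚ) * u i * v i) / d i := by
  classical
  obtain ⟨P, Q, hPQ, hP, hQ, a, b, c, e, f, ho, hcard⟩ := hp.exists_rows
  refine or_iff_not_imp_left.mpr fun hno => ?_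
  set S := Finset.univ.filter fun i => u i ≠ 0 with hS
  have hBS : ({t₀, P, Q} : Finset ι) ⊆ S := by
    intro i hi
    simp only [Finset.mem_insert, Finset.mem_singleton] at hi
    simp only [hS, Finset.mem_filter, Finset.mem_univ, true_and]
    rcases hi with hi | hi | hi <;> rw [hi]
    · rw [hp.u0]; exact one_ne_zero
    · intro z; rw [z, mul_zero] at a; omega
    · intro z; rw [z] at e
      have : v Q = 0 := by linarith
      rw [this, mul_zero] at c; omega
  have hB3 : ({t₀, P, Q} : Finset ι).card = 3 :=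
    Finset.card_eq_three.mpr ⟨t₀, P, Q, hP.symm, hQ.symm, hPQ, rfl⟩
  have hrest : (S \ {t₀, P, Q}).card = 3 := by rw [Finset.card_sdiff_of_subset hBS, hcard, hB3]
  have hbound : ∀ i ∈ S \ {t₀, P, Q}, -(1 : ℚ) / 8 ≤ ((u i : ℚ) * u i * v i) / d i := by
    intro i hi
    simp only [Finset.mem_sdiff, Finset.mem_insert, Finset.mem_singleton, not_or, hS,
      Finset.mem_filter, Finset.mem_univ, true_and] at hi
    obtain ⟨hi0, hit, hiP, hiQ⟩ := hi
    obtain ⟨huv, hle⟩ := ho i hiP hiQ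
    have h1 := eq_one_of_mul_self hle hi0
    have h1q : (u i : ℚ) * u i = 1 := by exact_mod_cast h1
    rw [← huv, h1q, one_mul, sign_div h1]
    refine inv_ge ?_ fun hh => hno ⟨i, hit, ?_⟩
    · have h := h9 i
      rw [← huv] at h
      rcases mul_self_eq_one_iff.mp h1 with hh | hh <;> rw [hh] at h ⊢ <;> omega
    · obtain ⟨r1, r2⟩ := sign_mul_eq_one h1 (hd i) hh
      exact ⟨r1, r2, huv ▸ r2⟩
  have hE : (9 : ℤ) ∣ u P * d P - 4 := by
    have h := h9 P
    rw [b] at h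
    rcases mul_self_eq_one_iff.mp a with hh | hh <;> rw [hh] at h ⊢ <;> omega
  have hEb := inv_ge' hE
  have sP : (u P : ℚ) * u P = 1 := by exact_mod_cast a
  have sQ : (v Q : ℚ) * v Q = 1 := by exact_mod_cast c
  have tP : ((u P : ℚ) * u P * v P) / d P = -2 * (1 / ((u P * d P : ℤ) : ℚ)) := by
    rw [← sign_div a, sP, b]; push_cast; ring
  have tQ : ((u Q : ℚ) * u Q * v Q) / d Q = 4 * (1 / ((u P * d P : ℤ) : ℚ)) := by
    rw [f, ← sign_div c, e]; push_cast
    linear_combination (4 * (v Q : ℚ) / d Q) * sQ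
  have hsum : ∑ i, ((u i : ℚ) * u i * v i) / d i =
      ∑ i ∈ S \ {t₀, P, Q}, ((u i : ℚ) * u i * v i) / d i +
        (1 + (-2 * (1 / ((u P * d P : ℤ) : ℚ)) + 4 * (1 / ((u P * d P : ℤ) : ℚ)))) := by
    rw [← Finset.sum_subset (Finset.subset_univ S) fun i _ hi => by
      have : u i = 0 := by simpa [hS] using hi
      simp [this], ← Finset.sum_sdiff hBS]
    rw [Finset.sum_insert (s := {P, Q}) (by simp [hP.symm, hQ.symm]), Finset.sum_pair hPQ, tP, tQ,
      hp.u0, hp.v0, hd0]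
    norm_num
  have hge := Finset.card_nsmul_le_sum _ _ _ hbound
  rw [hrest, nsmul_eq_mul] at hge
  rw [hsum]
  push_cast at hge
  linarith

end Cfsg.Agent.Block.NineCC
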