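import Mathlib

/-!
A Sylow 3-subgroup of order nine in which every nonidentity element has centralizer equal to the
subgroup: fusion, the triple lemma and the passage to normal subgroups.
-/

set_option autoImplicit false
set_option linter.style.haveILetI false
set_option linter.unusedSectionVars false

namespace Cfsg.Agent.Block.NineCC

open Subgroup

universe u

variable {G : Type u} [Group G] [Finite G]

/-- The standing hypothesis on the Sylow subgroup. -/
structure Hyp (T : Sylow 3 G) : Prop where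
  card : Nat.card (T : Subgroup G) = 9
  exp : ∀ t ∈ (T : Subgroup G), t ^ 3 = 1
  cent : ∀ t ∈ (T : Subgroup G), t ≠ 1 → centralizer ({t} : Set G) = (T : Subgroup G)

/-- The nonidentity elements of `T` form more than one class. -/
def TwoClasses (T : Sylow 3 G) : Prop :=
  ∃ a ∈ (T : Subgroup G), ∃ b ∈ (T : Subgroup G), a ≠ 1 ∧ b ≠ 1 ∧ ¬ IsConj a b

variable {T : Sylow 3 G}

theorem Hyp.comm (h : Hyp T) {s t : G} (hs : s ∈ (T : Subgroup G)) (ht : t ∈ (T : Subgroup G)) :
    s * t = t * s := by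
  by_cases e : t = 1
  · simp [e]
  · rw [← h.cent t ht e] at hs
    exact mem_centralizer_singleton_iff.mp hs

theorem Hyp.mem_of_commute (h : Hyp T) {t g : G} (ht : t ∈ (T : Subgroup G)) (ht1 : t ≠ 1)
    (hg : g * t = t * g) : g ∈ (T : Subgroup G) := by
  rw [← h.cent t ht ht1]
  exact mem_centralizer_singleton_iff.mpr hg

theorem Hyp.pow_three' (h : Hyp T) {t : G} (ht : t ∈ (T : Subgroup G)) : t * t * t = 1 := by
  rw [← h.exp t ht, pow_succ, pow_two]

theorem Hyp.inv_eq_sq (h : Hyp T) {t : G} (ht : t ∈ (T : Subgroup G)) : t⁻¹ = t * t :=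
  inv_eq_of_mul_eq_one_right (by rw [← mul_assoc, h.pow_three' ht])

theorem Hyp.ne_inv (h : Hyp T) {t : G} (ht : t ∈ (T : Subgroup G)) (ht1 : t ≠ 1) : t ≠ t⁻¹ :=
  fun e => ht1 (by
    have h2 : t * t = 1 := mul_eq_one_iff_eq_inv.mpr e
    have h3 := h.pow_three' ht
    rwa [h2, one_mul] at h3)

theorem Hyp.conj_mem_T (h : Hyp T) {t g : G} (ht : t ∈ (T : Subgroup G)) (ht1 : t ≠ 1)
    (hg : g * t * g⁻¹ ∈ (T : Subgroup G)) :
    ∀ s ∈ (T : Subgroup G), g * s * g⁻¹ ∈ (T : Subgroup G) := by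
  intro s hs
  refine h.mem_of_commute hg (fun e => ht1 (conj_eq_one_iff.mp e)) ?_
  calc g * s * g⁻¹ * (g * t * g⁻¹) = g * (s * t) * g⁻¹ := by group
    _ = g * (t * s) * g⁻¹ := by rw [h.comm hs ht]
    _ = g * t * g⁻¹ * (g * s * g⁻¹) := by group

/-- Fusion in `T` is controlled by the normalizer. -/
theorem Hyp.fusion (h : Hyp T) {t g : G} (ht : t ∈ (T : Subgroup G)) (ht1 : t ≠ 1)
    (hg : g * t * g⁻¹ ∈ (T : Subgroup G)) : g ∈ normalizer ((T : Subgroup G) : Set G) := by
  refine mem_normalizer_iff.mpr fun s => ⟨h.conj_mem_T ht ht1 hg s, fun hs => ?_⟩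
  have h2 : g⁻¹ * (g * t * g⁻¹) * g⁻¹⁻¹ ∈ (T : Subgroup G) := by
    rwa [show g⁻¹ * (g * t * g⁻¹) * g⁻¹⁻¹ = t by group]
  have h3 := h.conj_mem_T hg (fun e => ht1 (conj_eq_one_iff.mp e)) h2 _ hs
  rwa [show g⁻¹ * (g * s * g⁻¹) * g⁻¹⁻¹ = s by group] at h3

theorem Hyp.card_fiber (h : Hyp T) [Fintype G] [DecidableEq G] {t s : G}
    (ht : t ∈ (T : Subgroup G)) (ht1 : t ≠ 1) (hs : IsConj t s) :
    (Finset.univ.filter fun g : G => g * t * g⁻¹ = s).card = 9 := by
  obtain ⟨g₀, hg₀⟩ := isConj_iff.mp hs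
  rw [← h.card, ← h.cent t ht ht1, ← Nat.card_eq_finsetCard]
  refine Nat.card_congr (Equiv.subtypeEquiv (Equiv.mulLeft g₀⁻¹) fun g => ?_)
  simp only [Finset.mem_filter, Finset.mem_univ, true_and, Equiv.coe_mulLeft,
    mem_centralizer_singleton_iff]
  constructor
  · intro e
    calc g₀⁻¹ * g * t = g₀⁻¹ * (g * t * g⁻¹) * g := by group
      _ = g₀⁻¹ * (g₀ * t * g₀⁻¹) * g := by rw [e, hg₀]
      _ = t * (g₀⁻¹ * g) := by group
  · intro e
    calc g * t * g⁻¹ = g₀ * (g₀⁻¹ * g * t) * g⁻¹ := by group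
      _ = g₀ * (t * (g₀⁻¹ * g)) * g⁻¹ := by rw [e]
      _ = g₀ * t * g₀⁻¹ := by group
      _ = s := hg₀

/-- Orbit-stabilizer for the normalizer acting on `T`. -/
theorem Hyp.card_class (h : Hyp T) [Fintype G] [DecidableEq G] {t : G}
    (ht : t ∈ (T : Subgroup G)) (ht1 : t ≠ 1) :
    Nat.card {s : G // s ∈ (T : Subgroup G) ∧ IsConj t s} * 9 =
      Nat.card (normalizer ((T : Subgroup G) : Set G)) := by
  classical
  set N := normalizer ((T : Subgroup G) : Set G) with hN
  set S := Finset.univ.filter fun s : G => s ∈ (T : Subgroup G) ∧ IsConj t s with hS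
  set F := Finset.univ.filter fun g : G => g ∈ N with hF
  have hmaps : Set.MapsTo (fun g : G => g * t * g⁻¹) (F : Set G) (S : Set G) := by
    intro g hg
    simp only [hF, Finset.mem_coe, Finset.mem_filter, Finset.mem_univ, true_and] at hg
    simp only [hS, Finset.mem_coe, Finset.mem_filter, Finset.mem_univ, true_and]
    exact ⟨(mem_normalizer_iff.mp hg t).mp ht, isConj_iff.mpr ⟨g, rfl⟩⟩
  have hfib : ∀ s ∈ S, (F.filter fun g => g * t * g⁻¹ = s).card = 9 := by
    intro s hs
    simp only [hS, Finset.mem_filter, Finset.mem_univ, true_and] at hs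
    rw [← h.card_fiber ht ht1 hs.2]
    refine congrArg Finset.card (Finset.ext fun g => ?_)
    simp only [hF, Finset.mem_filter, Finset.mem_univ, true_and]
    exact ⟨fun e => e.2, fun e => ⟨h.fusion ht ht1 (e ▸ hs.1), e⟩⟩
  have h1 : F.card = S.card * 9 := by
    rw [Finset.card_eq_sum_card_fiberwise hmaps, Finset.sum_congr rfl hfib, Finset.sum_const,
      smul_eq_mul]
  rw [Nat.subtype_card S (fun s => by simp [hS]), ← h1, Nat.subtype_card F (fun g => by simp [hF])]

/-- An involution of the normalizer inverts `T`. -/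
theorem Hyp.exists_inverter (h : Hyp T)
    (h2 : 2 ∣ Nat.card (normalizer ((T : Subgroup G) : Set G))) :
    ∃ z ∈ normalizer ((T : Subgroup G) : Set G), z ∉ (T : Subgroup G) ∧
      ∀ t ∈ (T : Subgroup G), z * t * z⁻¹ = t⁻¹ := by
  haveI := Fact.mk Nat.prime_two
  obtain ⟨z, hz⟩ := exists_prime_orderOf_dvd_card' 2 h2
  have hzz : (z : G) * z = 1 := by
    rw [← pow_two, ← orderOf_dvd_iff_pow_eq_one, Subgroup.orderOf_coe, hz]
  have hzT : (z : G) ∉ (T : Subgroup G) := by
    intro hm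
    have h3 := h.pow_three' hm
    rw [hzz, one_mul] at h3
    rw [← Subgroup.orderOf_coe, h3, orderOf_one] at hz
    omega
  refine ⟨z, z.2, hzT, fun t ht => ?_⟩
  have hc : (z : G) * t * (z : G)⁻¹ ∈ (T : Subgroup G) := (mem_normalizer_iff.mp z.2 t).mp ht
  by_contra hne
  refine hzT (h.mem_of_commute (mul_mem hc ht) (fun e => hne (eq_inv_of_mul_eq_one_left e)) ?_)
  have hzi : (z : G)⁻¹ = z := inv_eq_of_mul_eq_one_right hzz
  calc (z : G) * ((z : G) * t * (z : G)⁻¹ * t)
      = (z : G) * (t * ((z : G) * t * (z : G)⁻¹)) := by rw [h.comm hc ht]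
    _ = (z : G) * t * (z : G) * t * (z : G)⁻¹ := by group
    _ = (z : G) * t * (z : G)⁻¹ * t * z := by rw [hzi]

theorem Hyp.isConj_inv (h : Hyp T) (h2 : 2 ∣ Nat.card (normalizer ((T : Subgroup G) : Set G)))
    {t : G} (ht : t ∈ (T : Subgroup G)) : IsConj t t⁻¹ := by
  obtain ⟨z, -, -, hz⟩ := h.exists_inverter h2
  exact isConj_iff.mpr ⟨z, hz t ht⟩

theorem Hyp.not_dvd_index (T : Sylow 3 G) : ¬ 3 ∣ (T : Subgroup G).index := by
  haveI := Fact.mk Nat.prime_three
  exact T.not_dvd_index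

theorem Hyp.not_twentyseven (h : Hyp T) (H : Subgroup G) : ¬ 27 ∣ Nat.card H := by
  intro hd
  apply Hyp.not_dvd_index T
  have h1 := hd.trans (Subgroup.card_subgroup_dvd_card H)
  rw [← Subgroup.index_mul_card (T : Subgroup G), h.card] at h1
  omega

/-- The automizer has order one, two or four. -/
theorem Hyp.card_normalizer (h : Hyp T) (h2c : TwoClasses T) :
    Nat.card (normalizer ((T : Subgroup G) : Set G)) = 9 ∨
    Nat.card (normalizer ((T : Subgroup G) : Set G)) = 18 ∨
    Nat.card (normalizer ((T : Subgroup G) : Set G)) = 36 := by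
  classical
  haveI := Fintype.ofFinite G
  obtain ⟨a, ha, b, hb, ha1, hb1, hab⟩ := h2c
  have e1 := h.card_class ha ha1
  have e2 := h.card_class hb hb1
  set A := Finset.univ.filter fun s : G => s ∈ (T : Subgroup G) ∧ IsConj a s
  set B := Finset.univ.filter fun s : G => s ∈ (T : Subgroup G) ∧ IsConj b s
  have hA : Nat.card {s : G // s ∈ (T : Subgroup G) ∧ IsConj a s} = A.card := by
    rw [Nat.card_eq_fintype_card, Fintype.card_subtype]
  have hB : Nat.card {s : G // s ∈ (T : Subgroup G) ∧ IsConj b s} = B.card := by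
    rw [Nat.card_eq_fintype_card, Fintype.card_subtype]
  have hd : Disjoint A B := Finset.disjoint_left.mpr fun s hs hs' => by
    simp only [A, B, Finset.mem_filter] at hs hs'
    exact hab (hs.2.2.trans hs'.2.2.symm)
  have hsub : A ∪ B ⊆ (Finset.univ.filter fun s : G => s ∈ (T : Subgroup G)).erase 1 := by
    intro s hs
    simp only [A, B, Finset.mem_union, Finset.mem_filter, Finset.mem_univ, true_and] at hs
    simp only [Finset.mem_erase, Finset.mem_filter, Finset.mem_univ, true_and]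
    rcases hs with hs | hs
    · exact ⟨fun e => ha1 (isConj_one_left.mp (e ▸ hs.2)), hs.1⟩
    · exact ⟨fun e => hb1 (isConj_one_left.mp (e ▸ hs.2)), hs.1⟩
  have h8 := Finset.card_le_card hsub
  rw [Finset.card_union_of_disjoint hd, Finset.card_erase_of_mem (by simp),
    ← Nat.subtype_card (p := fun s => s ∈ (T : Subgroup G))
      (Finset.univ.filter fun s : G => s ∈ (T : Subgroup G)) (fun s => by simp),
    show Nat.card {s : G // s ∈ (T : Subgroup G)} = 9 from h.card] at h8
  have hpos : 0 < A.card := Finset.card_pos.mpr ⟨a, Finset.mem_filter.mpr ⟨Finset.mem_univ _, ha, IsConj.refl a⟩⟩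
  rw [hA] at e1
  rw [hB] at e2
  have h27 := h.not_twentyseven (normalizer ((T : Subgroup G) : Set G))
  have : A.card ≠ 3 := fun e => h27 (by rw [← e1, e])
  omega

/-- The triple lemma: three classes meeting `T` multiply to one only inside `T`, unless they
coincide. -/
theorem Hyp.triple (h : Hyp T) {x y : G} (hx : x ∈ (T : Subgroup G)) (hx1 : x ≠ 1)
    (hy3 : y * y * y = 1) (hxy : x * y * (x * y) * (x * y) = 1) (hyT : y ∉ (T : Subgroup G)) :
    IsConj x y ∧ IsConj x (x * y)⁻¹ := by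
  classical
  have hx3 := h.pow_three' hx
  have hxx : x * x = x⁻¹ := (h.inv_eq_sq hx).symm
  have hyy : y⁻¹ * y⁻¹ = y := by
    rw [← mul_inv_rev]
    exact inv_eq_of_mul_eq_one_left (by rw [← mul_assoc, hy3])
  set u := x * y⁻¹ with hu
  set v := y⁻¹ * x with hv
  have huv : u * v = x * y * x := by
    rw [hu, hv, mul_assoc x y⁻¹, ← mul_assoc y⁻¹ y⁻¹, hyy, mul_assoc]
  have hvu : v * u = (y * x * y)⁻¹ := by
    calc v * u = y⁻¹ * (x * x) * y⁻¹ := by rw [hu, hv]; group
      _ = y⁻¹ * x⁻¹ * y⁻¹ := by rw [hxx]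
      _ = (y * x * y)⁻¹ := by group
  have hrel : x * y * x = (y * x * y)⁻¹ := eq_inv_of_mul_eq_one_left (by rw [← hxy]; group)
  have hcomm : u * v = v * u := by rw [huv, hvu, hrel]
  set A := closure ({u, v} : Set G) with hA
  have huA : u ∈ A := subset_closure (by simp)
  have hvA : v ∈ A := subset_closure (by simp)
  have hgen : A ≤ centralizer ({u, v} : Set G) := by
    refine (closure_le _).mpr ?_
    intro a ha
    refine mem_centralizer_iff.mpr fun b hb => ?_
    simp only [Set.mem_insert_iff, Set.mem_singleton_iff] at ha hb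
    rcases ha with rfl | rfl <;> rcases hb with rfl | rfl
    · rfl
    · exact hcomm.symm
    · exact hcomm
    · rfl
  have hAc : ∀ a ∈ A, ∀ b ∈ A, a * b = b * a := by
    have h2 : A ≤ centralizer (A : Set G) := (closure_le _).mpr fun c hc =>
      mem_centralizer_iff.mpr fun a ha => (mem_centralizer_iff.mp (hgen ha) c hc).symm
    exact fun a ha b hb => (mem_centralizer_iff.mp (h2 ha) b hb).symm
  have hinv : ∀ a ∈ A, x * a * x⁻¹ ∈ A := by
    have h2 : A ≤ A.comap (MulAut.conj x).toMonoidHom := by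
      refine (closure_le _).mpr ?_
      intro a ha
      simp only [Set.mem_insert_iff, Set.mem_singleton_iff] at ha
      rw [SetLike.mem_coe, mem_comap]
      show x * a * x⁻¹ ∈ A
      rcases ha with rfl | rfl
      · rw [show x * u * x⁻¹ = (u * v)⁻¹ from ?_]
        · exact inv_mem (mul_mem huA hvA)
        rw [huv]
        calc x * u * x⁻¹ = (x * x) * y⁻¹ * x⁻¹ := by rw [hu]; group
          _ = (x * y * x)⁻¹ := by rw [hxx]; group
      · rw [show x * v * x⁻¹ = u by rw [hu, hv]; group]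
        exact huA
    exact fun a ha => mem_comap.mp (h2 ha)
  have hfree : ∀ a ∈ A, x * a * x⁻¹ = a → a = 1 := by
    intro a ha he
    by_contra hne
    have haT : a ∈ (T : Subgroup G) := h.mem_of_commute hx hx1 (mul_inv_eq_iff_eq_mul.mp he).symm
    have huT : u ∈ (T : Subgroup G) := h.mem_of_commute haT hne (hAc u huA a ha)
    exact hyT (inv_mem_iff.mp ((mul_mem_cancel_left hx).mp huT))
  let f : A → A := fun a => ⟨a * (x * a * x⁻¹)⁻¹, mul_mem a.2 (inv_mem (hinv a a.2))⟩
  have hinj : Function.Injective f := by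
    intro a b he
    have he' : (a : G) * (x * a * x⁻¹)⁻¹ = b * (x * b * x⁻¹)⁻¹ := congrArg Subtype.val he
    have h1 : (a : G) = b * ((x * b * x⁻¹)⁻¹ * (x * a * x⁻¹)) := by
      rw [← mul_assoc, ← he']; group
    have h2 : x * ((b : G)⁻¹ * a) * x⁻¹ = (b : G)⁻¹ * a := by
      calc x * ((b : G)⁻¹ * a) * x⁻¹ = (x * b * x⁻¹)⁻¹ * (x * a * x⁻¹) := by group
        _ = (b : G)⁻¹ * ((b : G) * ((x * b * x⁻¹)⁻¹ * (x * a * x⁻¹))) := by group
        _ = (b : G)⁻¹ * a := by rw [← h1]
    exact Subtype.ext (inv_mul_eq_one.mp (hfree _ (mul_mem (inv_mem b.2) a.2) h2)).symm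
  have hsurj := Finite.injective_iff_surjective.mp hinj
  have hall : ∀ w ∈ A, IsConj x (w * x) := by
    intro w hw
    obtain ⟨a, ha⟩ := hsurj ⟨w, hw⟩
    have ha' : (a : G) * (x * a * x⁻¹)⁻¹ = w := congrArg Subtype.val ha
    refine isConj_iff.mpr ⟨a, ?_⟩
    rw [← ha']; group
  refine ⟨?_, ?_⟩
  · have h1 := hall u⁻¹ (inv_mem huA)
    rwa [show u⁻¹ * x = y by rw [hu]; group] at h1
  · have h1 := hall v hvA
    rwa [show v * x = (x * y)⁻¹ by rw [hv, mul_assoc, hxx]; group] at h1

/-- A normal subgroup of order prime to three is trivial. -/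
theorem Hyp.eq_bot_of_not_dvd (h : Hyp T) (W : Subgroup G) [W.Normal]
    (hW : ¬ 3 ∣ Nat.card W) : W = ⊥ := by
  classical
  obtain ⟨a, ha, ha1⟩ : ∃ a ∈ (T : Subgroup G), a ≠ 1 := by
    have : (T : Subgroup G) ≠ ⊥ := fun e => by
      have h9 := h.card
      rw [e, Subgroup.card_bot] at h9
      omega
    by_contra hcon
    push Not at hcon
    exact this ((Subgroup.eq_bot_iff_forall _).mpr hcon)
  obtain ⟨b, hb, hba⟩ : ∃ b ∈ (T : Subgroup G), b ∉ zpowers a := by
    by_contra hcon
    push Not at hcon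
    have hle := Subgroup.card_le_of_le (H := (T : Subgroup G)) (K := zpowers a) hcon
    rw [h.card, Nat.card_zpowers] at hle
    have := Nat.le_of_dvd (by norm_num) (orderOf_dvd_of_pow_eq_one (h.exp a ha))
    omega
  have h3W : ∀ w ∈ W, w * w * w = 1 → w = 1 := by
    intro w hw hw3
    by_contra hne
    haveI := Fact.mk Nat.prime_three
    have ho : orderOf w = 3 := orderOf_eq_prime (by rw [pow_succ, pow_two, hw3]) hne
    exact hW (ho ▸ Subgroup.orderOf_dvd_natCard W hw)
  -- every element of order three of `T` acts without fixed points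
  have hfix : ∀ t ∈ (T : Subgroup G), t ≠ 1 → ∀ w ∈ W,
      w * (t * w * t⁻¹) * (t * t * w * (t * t)⁻¹) = 1 := by
    intro t ht ht1 w hw
    let f : W → W := fun x => ⟨(x : G)⁻¹ * (t * x * t⁻¹),
      mul_mem (inv_mem x.2) (Subgroup.Normal.conj_mem inferInstance _ x.2 t)⟩
    have hinj : Function.Injective f := by
      intro x y he
      have he' : (x : G)⁻¹ * (t * x * t⁻¹) = (y : G)⁻¹ * (t * y * t⁻¹) := congrArg Subtype.val he
      have h2 : (y : G) * (x : G)⁻¹ * t = t * ((y : G) * (x : G)⁻¹) := by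
        calc (y : G) * (x : G)⁻¹ * t = (y : G) * ((x : G)⁻¹ * (t * x * t⁻¹)) * t * (x : G)⁻¹ := by
              group
          _ = (y : G) * ((y : G)⁻¹ * (t * y * t⁻¹)) * t * (x : G)⁻¹ := by rw [he']
          _ = t * ((y : G) * (x : G)⁻¹) := by group
      have h4 := h.mem_of_commute ht ht1 h2
      have h5 := h3W _ (mul_mem y.2 (inv_mem x.2)) (h.pow_three' h4)
      exact Subtype.ext (mul_inv_eq_one.mp h5).symm
    obtain ⟨x, hx⟩ := Finite.injective_iff_surjective.mp hinj ⟨w, hw⟩
    have hx' : (x : G)⁻¹ * (t * x * t⁻¹) = w := congrArg Subtype.val hx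
    rw [← hx']
    calc _ = (x : G)⁻¹ * ((t * t * t) * x * (t * t * t)⁻¹) := by group
      _ = 1 := by rw [h.pow_three' ht]; group
  -- the images of one element commute
  have hcw : ∀ t ∈ (T : Subgroup G), ∀ w ∈ W, w * (t * w * t⁻¹) = t * w * t⁻¹ * w := by
    intro t ht w hw
    by_cases ht1 : t = 1
    · simp [ht1]
    · have e1 := hfix t ht ht1 w hw
      have e2 := hfix t⁻¹ (inv_mem ht) (inv_ne_one.mpr ht1) w hw
      rw [← h.inv_eq_sq ht] at e1
      rw [← h.inv_eq_sq (inv_mem ht)] at e2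
      simp only [inv_inv] at e1 e2
      have eq1 : t⁻¹ * w * t = (w * (t * w * t⁻¹))⁻¹ := eq_inv_of_mul_eq_one_right e1
      rw [eq1] at e2
      refine inv_injective (mul_left_cancel (a := w) (mul_right_cancel (b := t * w * t⁻¹) ?_))
      calc w * (w * (t * w * t⁻¹))⁻¹ * (t * w * t⁻¹) = 1 := e2
        _ = w * (t * w * t⁻¹ * w)⁻¹ * (t * w * t⁻¹) := by group
  rw [eq_bot_iff]
  intro w hw
  rw [mem_bot]
  have hW' : ∀ t : G, t * w * t⁻¹ ∈ W := fun t => Subgroup.Normal.conj_mem inferInstance _ hw t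
  have hT2 : ∀ s ∈ (T : Subgroup G), ∀ t ∈ (T : Subgroup G),
      Commute (s * w * s⁻¹) (t * w * t⁻¹) := by
    intro s hs t ht
    have h1 := hcw (t * s⁻¹) (mul_mem ht (inv_mem hs)) _ (hW' s)
    rwa [show t * s⁻¹ * (s * w * s⁻¹) * (t * s⁻¹)⁻¹ = t * w * t⁻¹ by group] at h1
  have hab : ∀ i j : ℕ, a ^ i * b ^ j ∈ (T : Subgroup G) := fun i j =>
    mul_mem (pow_mem ha i) (pow_mem hb j)
  let w' : ℕ → ℕ → G := fun i j => (a ^ i * b ^ j) * w * (a ^ i * b ^ j)⁻¹
  let S : Subgroup G := closure (Set.range fun p : ℕ × ℕ => w' p.1 p.2)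
  letI : CommGroup S := { (inferInstance : Group S) with
    mul_comm := by
      have h1 : S ≤ centralizer (Set.range fun p : ℕ × ℕ => w' p.1 p.2) := (closure_le _).mpr
        (by rintro _ ⟨p, rfl⟩
            exact mem_centralizer_iff.mpr (by
              rintro _ ⟨q, rfl⟩
              exact hT2 _ (hab q.1 q.2) _ (hab p.1 p.2)))
      have h2 : S ≤ centralizer (S : Set G) := (closure_le _).mpr fun c hc =>
        mem_centralizer_iff.mpr fun x hx => (mem_centralizer_iff.mp (h1 hx) c hc).symm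
      exact fun x y => Subtype.ext (mem_centralizer_iff.mp (h2 x.2) y y.2).symm }
  let m : ℕ → ℕ → S := fun i j => ⟨w' i j, subset_closure ⟨(i, j), rfl⟩⟩
  have hline : ∀ i j : ℕ, a ^ i * b ^ j ≠ 1 → ∀ k l : ℕ,
      w' k l * w' (i + k) (j + l) * w' (i + i + k) (j + j + l) = 1 := by
    intro i j hij k l
    have e := hfix _ (hab i j) hij _ (hW' (a ^ k * b ^ l))
    have c : ∀ s t : ℕ, b ^ s * a ^ t = a ^ t * b ^ s := fun s t =>
      h.comm (pow_mem hb s) (pow_mem ha t)
    have p1 : a ^ (i + k) * b ^ (j + l) = a ^ i * b ^ j * (a ^ k * b ^ l) := by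
      rw [pow_add, pow_add, mul_assoc, ← mul_assoc (a ^ k), ← c j k]; group
    have p2 : a ^ (i + i + k) * b ^ (j + j + l) =
        a ^ i * b ^ j * (a ^ i * b ^ j) * (a ^ k * b ^ l) := by
      rw [show i + i + k = i + (i + k) by omega, show j + j + l = j + (j + l) by omega,
        pow_add a i (i + k), pow_add b j (j + l), mul_assoc, ← mul_assoc (a ^ (i + k)),
        ← c j (i + k), mul_assoc (b ^ j), p1]
      group
    show _ * _ * _ = (1 : G)
    simp only [w', p1, p2]
    rw [← e]; group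
  have hm3 : ∀ i j : ℕ, m (i + 3) j = m i j := by
    intro i j
    apply Subtype.ext
    show w' (i + 3) j = w' i j
    simp only [w', pow_add, h.exp a ha, mul_one]
  have hn3 : ∀ i j : ℕ, m i (j + 3) = m i j := by
    intro i j
    apply Subtype.ext
    show w' i (j + 3) = w' i j
    simp only [w', pow_add, h.exp b hb, mul_one]
  have hL : ∀ i j : ℕ, a ^ i * b ^ j ≠ 1 → ∀ k l : ℕ,
      m k l * m (i + k) (j + l) * m (i + i + k) (j + j + l) = 1 :=
    fun i j hij k l => Subtype.ext (hline i j hij k l)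
  have na : a ^ 1 * b ^ 0 ≠ 1 := by simpa using ha1
  have nb : a ^ 0 * b ^ 1 ≠ 1 := by
    intro e; exact hba ((show b = 1 by simpa using e) ▸ one_mem _)
  have nab : a ^ 1 * b ^ 1 ≠ 1 := by
    intro e; exact hba ((show b = a⁻¹ from eq_inv_of_mul_eq_one_right (by simpa using e)) ▸
      inv_mem (mem_zpowers a))
  have nab2 : a ^ 1 * b ^ 2 ≠ 1 := by
    intro e
    rw [pow_one, pow_two, ← h.inv_eq_sq hb] at e
    exact hba ((mul_inv_eq_one.mp e) ▸ mem_zpowers a)
  have e1 := hL 1 0 na 0 0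
  have e2 := hL 0 1 nb 0 0
  have e3 := hL 1 1 nab 0 0
  have e4 := hL 1 2 nab2 0 0
  have f1 := hL 1 0 na 0 1
  have f2 := hL 1 0 na 0 2
  have r24 : m 2 4 = m 2 1 := hn3 2 1
  norm_num at e1 e2 e3 e4 f1 f2
  rw [r24] at e4
  have key : m 0 0 * m 0 0 * m 0 0 = 1 := by
    calc m 0 0 * m 0 0 * m 0 0
        = (m 0 0 * m 0 0 * m 0 0) * (m 0 0 * m 1 0 * m 2 0) * (m 0 1 * m 1 1 * m 2 1) *
          (m 0 2 * m 1 2 * m 2 2) := by rw [e1, f1, f2, mul_one, mul_one, mul_one]
      _ = (m 0 0 * m 1 0 * m 2 0) * (m 0 0 * m 0 1 * m 0 2) * (m 0 0 * m 1 1 * m 2 2) *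
          (m 0 0 * m 1 2 * m 2 1) := by ac_rfl
      _ = 1 := by rw [e1, e2, e3, e4, mul_one, mul_one, mul_one]
  have key' : w' 0 0 * w' 0 0 * w' 0 0 = 1 := congrArg Subtype.val key
  simp only [w', pow_zero, mul_one, one_mul, inv_one] at key'
  exact h3W w hw key'

/-- A normal subgroup of order divisible by three meets `T`. -/
theorem exists_mem_of_dvd (T : Sylow 3 G) (W : Subgroup G) [W.Normal] (hW : 3 ∣ Nat.card W) :
    ∃ t ∈ (T : Subgroup G), t ≠ 1 ∧ t ∈ W := by
  haveI := Fact.mk Nat.prime_three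
  obtain ⟨w, hw⟩ := exists_prime_orderOf_dvd_card' 3 hW
  have hp : IsPGroup 3 (zpowers (w : G)) :=
    IsPGroup.of_card (n := 1) (by rw [Nat.card_zpowers, Subgroup.orderOf_coe, hw, pow_one])
  obtain ⟨Q, hQ⟩ := hp.exists_le_sylow
  obtain ⟨g, hg⟩ := MulAction.exists_smul_eq G Q T
  refine ⟨g * w * g⁻¹, ?_, fun e => ?_, Subgroup.Normal.conj_mem inferInstance _ w.2 g⟩
  · rw [← hg, Sylow.coe_subgroup_smul]
    exact Subgroup.smul_mem_pointwise_smul _ _ _ (hQ (mem_zpowers _))
  · rw [conj_eq_one_iff] at e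
    rw [← Subgroup.orderOf_coe, e, orderOf_one] at hw
    omega

/-- The number of Sylow subgroups is congruent to one modulo nine. -/
theorem Hyp.card_sylow (h : Hyp T) : Nat.card (Sylow 3 G) % 9 = 1 := by
  classical
  haveI := Fact.mk Nat.prime_three
  have hstab : ∀ Q : Sylow 3 G, Q ≠ T → ∀ t ∈ (T : Subgroup G), t • Q = Q → t = 1 := by
    intro Q hQ t ht he
    by_contra ht1
    have htN := Sylow.smul_eq_iff_mem_normalizer.mp he
    have hp : IsPGroup 3 (zpowers t ⊔ (Q : Subgroup G) : Subgroup G) :=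
      (IsPGroup.of_card (n := 1) (by
        rw [Nat.card_zpowers, orderOf_eq_prime (h.exp t ht) ht1, pow_one])).to_sup_of_normal_right'
        Q.isPGroup' (zpowers_le.mpr htN)
    have htQ : t ∈ (Q : Subgroup G) := by
      rw [← Q.is_maximal' hp le_sup_right]
      exact mem_sup_left (mem_zpowers t)
    have hQ9 : Nat.card (Q : Subgroup G) = 3 ^ 2 := by
      rw [Q.card_eq_multiplicity, ← T.card_eq_multiplicity, h.card]; norm_num
    letI := IsPGroup.commGroupOfCardEqPrimeSq (p := 3) (G := (Q : Subgroup G)) hQ9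
    have hle : (Q : Subgroup G) ≤ (T : Subgroup G) := fun q hq =>
      h.mem_of_commute ht ht1 (congrArg Subtype.val
        (mul_comm (⟨q, hq⟩ : (Q : Subgroup G)) ⟨t, htQ⟩))
    exact hQ (Sylow.ext (Subgroup.eq_of_le_of_card_ge hle (by rw [hQ9, h.card]; norm_num)))
  let X := {Q : Sylow 3 G // Q ≠ T}
  letI : MulAction (T : Subgroup G) X :=
    { smul := fun t Q => ⟨(t : G) • Q.1, fun e => Q.2 (by
        calc Q.1 = (t : G)⁻¹ • ((t : G) • Q.1) := (inv_smul_smul _ _).symm
          _ = (t : G)⁻¹ • T := by rw [e]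
          _ = T := Sylow.smul_eq_iff_mem_normalizer.mpr
              (le_normalizer (inv_mem t.2)))⟩
      one_smul := fun Q => Subtype.ext (one_smul G Q.1)
      mul_smul := fun s t Q => Subtype.ext (mul_smul (s : G) (t : G) Q.1) }
  have hfree : ∀ Q : X, MulAction.stabilizer (T : Subgroup G) Q = ⊥ := by
    intro Q
    refine (Subgroup.eq_bot_iff_forall _).mpr fun t ht => Subtype.ext ?_
    exact hstab Q.1 Q.2 t t.2 (congrArg Subtype.val (MulAction.mem_stabilizer_iff.mp ht))
  have h1 := Nat.card_congr (MulAction.selfEquivOrbitsQuotientProd hfree)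
  rw [Nat.card_prod, h.card] at h1
  haveI := Fintype.ofFinite (Sylow 3 G)
  have h2 : Nat.card X + 1 = Nat.card (Sylow 3 G) := by
    have h3 : 0 < Fintype.card (Sylow 3 G) := Fintype.card_pos_iff.mpr ⟨T⟩
    rw [Nat.card_eq_fintype_card, Nat.card_eq_fintype_card, Fintype.card_subtype_compl,
      Fintype.card_subtype_eq]
    omega
  omega

theorem normal_of_normalizer_eq_top (T : Sylow 3 G)
    (h : normalizer ((T : Subgroup G) : Set G) = ⊤) : (T : Subgroup G).Normal :=
  normalizer_eq_top_iff.mp h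

/-- Burnside's transfer theorem in this setting. -/
theorem Hyp.normal_of_nine (h : Hyp T)
    (h9 : Nat.card (normalizer ((T : Subgroup G) : Set G)) = 9) : (T : Subgroup G).Normal := by
  haveI := Fact.mk Nat.prime_three
  have he : (T : Subgroup G) = normalizer ((T : Subgroup G) : Set G) :=
    Subgroup.eq_of_le_of_card_ge le_normalizer (by rw [h9, h.card])
  have hle : normalizer ((T : Subgroup G) : Set G) ≤ centralizer ((T : Subgroup G) : Set G) := by
    rw [← he]
    exact fun s hs => mem_centralizer_iff.mpr fun t ht => h.comm ht hs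
  have hc := MonoidHom.ker_transferSylow_isComplement' T hle
  have hb := h.eq_bot_of_not_dvd _ (MonoidHom.not_dvd_card_ker_transferSylow T hle)
  rw [hb, isComplement'_bot_left] at hc
  rw [hc]
  infer_instance

/-- The hypothesis passes to subgroups containing `T`. -/
theorem Hyp.subtype (h : Hyp T) {K : Subgroup G} (hK : (T : Subgroup G) ≤ K) :
    Hyp (T.subtype hK) := by
  refine ⟨?_, fun t ht => ?_, fun t ht ht1 => ?_⟩
  · rw [Sylow.coe_subtype, Nat.card_congr (subgroupOfEquivOfLe hK).toEquiv, h.card]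
  · rw [Sylow.coe_subtype, mem_subgroupOf] at ht
    exact Subtype.ext (by simpa using h.exp _ ht)
  · rw [Sylow.coe_subtype, mem_subgroupOf] at ht
    ext g
    rw [Sylow.coe_subtype, mem_subgroupOf, ← h.cent _ ht (fun e => ht1 (Subtype.ext e)),
      mem_centralizer_singleton_iff, mem_centralizer_singleton_iff]
    exact ⟨fun e => congrArg Subtype.val e, fun e => Subtype.ext e⟩

theorem TwoClasses.subtype (h2 : TwoClasses T) {K : Subgroup G} (hK : (T : Subgroup G) ≤ K) :
    TwoClasses (T.subtype hK) := by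
  obtain ⟨a, ha, b, hb, ha1, hb1, hab⟩ := h2
  refine ⟨⟨a, hK ha⟩, ?_, ⟨b, hK hb⟩, ?_, fun e => ha1 (congrArg Subtype.val e),
    fun e => hb1 (congrArg Subtype.val e), fun e => hab ?_⟩
  · rwa [Sylow.coe_subtype, mem_subgroupOf]
  · rwa [Sylow.coe_subtype, mem_subgroupOf]
  · exact MonoidHom.map_isConj K.subtype e

theorem card_normalizer_subtype (T : Sylow 3 G) {K : Subgroup G} (hK : (T : Subgroup G) ≤ K) :
    Nat.card (normalizer ((T.subtype hK : Subgroup K) : Set K)) =
      Nat.card (normalizer ((T : Subgroup G) : Set G) ⊓ K : Subgroup G) := by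
  have he : normalizer ((T.subtype hK : Subgroup K) : Set K) =
      (normalizer ((T : Subgroup G) : Set G)).subgroupOf K := by
    ext g
    simp only [Sylow.coe_subtype, mem_normalizer_iff, mem_subgroupOf, SetLike.mem_coe,
      Subgroup.coe_mul, Subgroup.coe_inv]
    refine ⟨fun h x => ⟨fun hx => ((h ⟨x, hK hx⟩).mp hx), fun hx => ?_⟩, fun h x => h x⟩
    have hxK : x ∈ K := by
      have h1 := mul_mem (mul_mem (inv_mem g.2) (hK hx)) g.2
      rwa [show (g : G)⁻¹ * ((g : G) * x * (g : G)⁻¹) * g = x by group] at h1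
    exact (h ⟨x, hxK⟩).mpr hx
  rw [he, ← Subgroup.card_map_of_injective K.subtype_injective, Subgroup.subgroupOf_map_subtype]

/-- A proper normal subgroup containing `T` has a smaller automizer. -/
theorem card_inf_lt (T : Sylow 3 G) {K : Subgroup G} [K.Normal] (hK : (T : Subgroup G) ≤ K)
    (hne : K ≠ ⊤) :
    Nat.card (normalizer ((T : Subgroup G) : Set G) ⊓ K : Subgroup G) ∣
      Nat.card (normalizer ((T : Subgroup G) : Set G)) ∧
    Nat.card (normalizer ((T : Subgroup G) : Set G) ⊓ K : Subgroup G) ≠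
      Nat.card (normalizer ((T : Subgroup G) : Set G)) := by
  haveI := Fact.mk Nat.prime_three
  refine ⟨Subgroup.card_dvd_of_le inf_le_left, fun e => hne ?_⟩
  have h1 := inf_eq_left.mp (Subgroup.eq_of_le_of_card_ge inf_le_left e.ge)
  rw [eq_top_iff, ← Sylow.normalizer_sup_eq_top' T hK]
  exact sup_le h1 le_rfl

/-- Normality of `T` in a normal subgroup gives normality in the group. -/
theorem normal_of_normal_subtype (T : Sylow 3 G) {K : Subgroup G} [K.Normal]
    (hK : (T : Subgroup G) ≤ K) (h : ((T.subtype hK : Subgroup K)).Normal) :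
    (T : Subgroup G).Normal := by
  haveI := Fact.mk Nat.prime_three
  haveI := Sylow.characteristic_of_normal (T.subtype hK) h
  have h1 : ((T.subtype hK : Subgroup K).map K.subtype).Normal :=
    ConjAct.normal_of_characteristic_of_normal
  rwa [Sylow.coe_subtype, subgroupOf_map_subtype, inf_eq_left.mpr hK] at h1

end Cfsg.Agent.Block.NineCC
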