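import Mathlib
import Cfsg.Agent.Lib.Char.Complete
import Cfsg.Agent.Lib.Char.Constituent
import Cfsg.Agent.Lib.Block.ClassMul
import Cfsg.Agent.Lib.Block.Central
import Cfsg.Agent.Lib.Block.NineCC.Basic
import Cfsg.Agent.Lib.Block.NineCC.Arith

/-!
The character values on a Sylow subgroup of order nine with small automizer, and the exact class
multiplication coefficients.
-/

set_option autoImplicit false
set_option linter.style.haveILetI false
set_option linter.unusedSectionVars false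

namespace Cfsg.Agent.Block.NineCC

open Subgroup Cfsg Cfsg.Agent.Char Cfsg.Agent.Block
open scoped ComplexConjugate

universe u

variable {G : Type u} [Group G] [Finite G] {T : Sylow 3 G}

/-- Generators of the two first lines. -/
structure Basis (T : Sylow 3 G) where
  a : G
  b : G
  ha : a ∈ (T : Subgroup G)
  hb : b ∈ (T : Subgroup G)
  ha1 : a ≠ 1
  hb1 : b ∉ zpowers a

/-- Representatives of the four lines. -/
def Basis.line (B : Basis T) : Fin 4 → G := ![B.a, B.b, B.a * B.b, B.a * B.b⁻¹]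

/-- The coordinates of the four representatives. -/
def lineIdx : Fin 4 → ZMod 3 × ZMod 3 := ![(1, 0), (0, 1), (1, 1), (1, 2)]

/-- The parametrisation of `T`. -/
def Basis.hom (B : Basis T) (h : Hyp T) : Multiplicative (ZMod 3 × ZMod 3) →* G where
  toFun x := B.a ^ x.toAdd.1.val * B.b ^ x.toAdd.2.val
  map_one' := by simp
  map_mul' x y := by
    simp only [toAdd_mul, Prod.fst_add, Prod.snd_add, ZMod.val_add]
    rw [← pow_eq_pow_mod _ (h.exp _ B.ha), ← pow_eq_pow_mod _ (h.exp _ B.hb), pow_add, pow_add,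
      mul_assoc, ← mul_assoc (B.a ^ y.toAdd.1.val),
      h.comm (pow_mem B.ha y.toAdd.1.val) (pow_mem B.hb x.toAdd.2.val)]
    group

theorem Basis.hom_mem (B : Basis T) (h : Hyp T) (x : Multiplicative (ZMod 3 × ZMod 3)) :
    B.hom h x ∈ (T : Subgroup G) :=
  mul_mem (pow_mem B.ha _) (pow_mem B.hb _)

theorem Basis.hom_line (B : Basis T) (h : Hyp T) (l : Fin 4) :
    B.hom h (Multiplicative.ofAdd (lineIdx l)) = B.line l := by
  fin_cases l
  · show B.a ^ (1 : ℕ) * B.b ^ (0 : ℕ) = B.a; simp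
  · show B.a ^ (0 : ℕ) * B.b ^ (1 : ℕ) = B.b; simp
  · show B.a ^ (1 : ℕ) * B.b ^ (1 : ℕ) = B.a * B.b; simp
  · show B.a ^ (1 : ℕ) * B.b ^ (2 : ℕ) = B.a * B.b⁻¹; rw [pow_one, pow_two, h.inv_eq_sq B.hb]

theorem Basis.hom_injective (B : Basis T) (h : Hyp T) : Function.Injective (B.hom h) := by
  refine (MonoidHom.ker_eq_bot_iff _).mp ((Subgroup.eq_bot_iff_forall _).mpr fun x hx => ?_)
  rw [MonoidHom.mem_ker] at hx
  have hx' : B.a ^ x.toAdd.1.val * B.b ^ x.toAdd.2.val = 1 := hx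
  have hab : ∀ j : ZMod 3, B.b ^ j.val ∈ zpowers B.a → j = 0 := by
    intro j hj
    fin_cases j
    · rfl
    · exact absurd (by simpa [ZMod.val] using hj) B.hb1
    · change B.b ^ 2 ∈ zpowers B.a at hj
      rw [pow_two, ← h.inv_eq_sq B.hb] at hj
      exact absurd (inv_mem_iff.mp hj) B.hb1
  have hj : x.toAdd.2 = 0 := hab _ (by
    rw [eq_inv_of_mul_eq_one_right hx']
    exact inv_mem (pow_mem (mem_zpowers B.a) _))
  rw [hj, ZMod.val_zero, pow_zero, mul_one] at hx'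
  have hi : x.toAdd.1 = 0 := by
    have hd : orderOf B.a ∣ x.toAdd.1.val := orderOf_dvd_of_pow_eq_one hx'
    haveI := Fact.mk Nat.prime_three
    rw [orderOf_eq_prime (h.exp _ B.ha) B.ha1] at hd
    have := ZMod.val_lt x.toAdd.1
    exact (ZMod.val_eq_zero _).mp (by omega)
  exact Multiplicative.toAdd.injective (Prod.ext hi hj)

theorem Basis.hom_surj (B : Basis T) (h : Hyp T) {t : G} (ht : t ∈ (T : Subgroup G)) :
    ∃ x, B.hom h x = t := by
  haveI := Fintype.ofFinite G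
  let f : Multiplicative (ZMod 3 × ZMod 3) → (T : Subgroup G) := fun x =>
    ⟨B.hom h x, B.hom_mem h x⟩
  have hf : Function.Bijective f := (Nat.bijective_iff_injective_and_card f).mpr
    ⟨fun x y e => B.hom_injective h (congrArg Subtype.val e), by rw [h.card]; simp [Nat.card_prod]⟩
  obtain ⟨x, hx⟩ := hf.2 ⟨t, ht⟩
  exact ⟨x, congrArg Subtype.val hx⟩

theorem idx_cases : ∀ p : ZMod 3 × ZMod 3, p = 0 ∨ ∃ l, p = lineIdx l ∨ p = -lineIdx l := by decide

theorem Basis.cases (B : Basis T) (h : Hyp T) {t : G} (ht : t ∈ (T : Subgroup G)) :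
    t = 1 ∨ ∃ l, t = B.line l ∨ t = (B.line l)⁻¹ := by
  obtain ⟨x, rfl⟩ := B.hom_surj h ht
  rcases idx_cases x.toAdd with e | ⟨l, e | e⟩
  · left
    rw [show x = 1 from Multiplicative.toAdd.injective e, map_one]
  · exact Or.inr ⟨l, Or.inl (by rw [← B.hom_line h, ← e, ofAdd_toAdd])⟩
  · refine Or.inr ⟨l, Or.inr ?_⟩
    rw [← B.hom_line h, ← map_inv, ← ofAdd_neg, ← e, ofAdd_toAdd]

theorem Basis.line_mem (B : Basis T) (h : Hyp T) (l : Fin 4) : B.line l ∈ (T : Subgroup G) :=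
  B.hom_line h l ▸ B.hom_mem h _

theorem Basis.line_ne_one (B : Basis T) (h : Hyp T) (l : Fin 4) : B.line l ≠ 1 := by
  rw [← B.hom_line h, ← map_one (B.hom h)]
  refine fun e => ?_
  have he := B.hom_injective h e
  fin_cases l <;> exact absurd he (by decide)

theorem Basis.line_inj (B : Basis T) (h : Hyp T) {l m : Fin 4}
    (e : B.line l = B.line m ∨ B.line l = (B.line m)⁻¹) : l = m := by
  have key : ∀ l m : Fin 4, (lineIdx l = lineIdx m ∨ lineIdx l = -lineIdx m) → l = m := by decide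
  refine key l m ?_
  rw [← B.hom_line h, ← B.hom_line h, ← map_inv, ← ofAdd_neg] at e
  exact e.imp (fun e => Multiplicative.ofAdd.injective (B.hom_injective h e))
    (fun e => Multiplicative.ofAdd.injective (B.hom_injective h e))

theorem exists_basis (h : Hyp T) {a b : G} (ha : a ∈ (T : Subgroup G)) (hb : b ∈ (T : Subgroup G))
    (ha1 : a ≠ 1) (hb1 : b ≠ 1) (hab : b ≠ a) (hab' : b ≠ a⁻¹) :
    ∃ B : Basis T, B.a = a ∧ B.b = b := by
  refine ⟨⟨a, b, ha, hb, ha1, fun hm => ?_⟩, rfl, rfl⟩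
  rw [← (isOfFinOrder_of_finite a).mem_powers_iff_mem_zpowers, Submonoid.mem_powers_iff] at hm
  obtain ⟨n, hn⟩ := hm
  rw [pow_eq_pow_mod n (h.exp a ha)] at hn
  have : n % 3 < 3 := Nat.mod_lt _ (by norm_num)
  interval_cases n % 3
  · exact hb1 (by simpa using hn.symm)
  · exact hab (by simpa using hn.symm)
  · exact hab' (by rw [← hn, pow_two, h.inv_eq_sq ha])

theorem Basis.exists_dual (B : Basis T) (h : Hyp T) (hinv : ∀ t ∈ (T : Subgroup G), IsConj t t⁻¹)
    (χ : IrrCharacter G) :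
    ∃ (a : ℕ) (b : Fin 4 → ℕ), (χ : G → ℂ) 1 = ((a + 2 * (b 0 + b 1 + b 2 + b 3) : ℤ) : ℂ) ∧
      ∀ l, (χ : G → ℂ) (B.line l) = ((a + 3 * b l - (b 0 + b 1 + b 2 + b 3) : ℤ) : ℂ) := by
  classical
  set H := Multiplicative (ZMod 3 × ZMod 3)
  set f : H → ℂ := fun x => (χ : G → ℂ) (B.hom h x) with hf
  have hfc : IsCharacter H f := IsChar.comp (B.hom h) (IsIrr.isCharacter χ.2)
  set ω : ℂ := Complex.exp (2 * Real.pi * Complex.I / (3 : ℕ)) with hω
  have hp : IsPrimitiveRoot ω 3 := Complex.isPrimitiveRoot_exp 3 (by norm_num)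
  have hsum : 1 + ω + ω ^ 2 = 0 := by
    have := hp.geom_sum_eq_zero (by norm_num)
    simpa [Finset.sum_range_succ] using this
  have hω3 : ω ^ 3 = 1 := hp.pow_eq_one
  have hconj : conj ω = ω ^ 2 := by
    rw [← Complex.inv_eq_conj (Complex.norm_eq_one_of_pow_eq_one hω3 (by norm_num))]
    exact inv_eq_of_mul_eq_one_right (by rw [← hω3]; ring)
  let ψ := AddChar.zmodChar 3 hω3
  let lam : ZMod 3 × ZMod 3 → H →* ℂ := fun p =>
    { toFun := fun x => ψ (p.1 * x.toAdd.1 + p.2 * x.toAdd.2)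
      map_one' := show ψ (p.1 * 0 + p.2 * 0) = 1 by
        rw [mul_zero, mul_zero, add_zero, AddChar.map_zero_eq_one]
      map_mul' := fun x y => by
        show ψ (p.1 * (x.toAdd.1 + y.toAdd.1) + p.2 * (x.toAdd.2 + y.toAdd.2)) = _
        rw [← AddChar.map_add_eq_mul]
        congr 1
        ring }
  have hnat : ∀ p, ∃ n : ℕ, classInner f (fun x => lam p x) = n := fun p => by
    refine IsChar.classInner_nat hfc ?_
    have := IsIrr.isCharacter (isIrr_linear (lam p).toHomUnits)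
    simpa [MonoidHom.coe_toHomUnits] using this
  have hcard : (Nat.card H : ℂ) = 9 := by
    rw [show Nat.card H = 9 by simp [H, Nat.card_prod]]
    norm_num
  have hinner : ∀ p, classInner f (fun x => lam p x) = (9 : ℂ)⁻¹ *
      ∑ q : ZMod 3 × ZMod 3, f (Multiplicative.ofAdd q) * conj (ψ (p.1 * q.1 + p.2 * q.2)) := by
    intro p
    rw [classInner, hcard]
    refine congrArg _ ?_
    exact (Equiv.sum_comp Multiplicative.ofAdd (fun x : H => f x * conj (lam p x))).symm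
  have hline : ∀ l, f (Multiplicative.ofAdd (lineIdx l)) = (χ : G → ℂ) (B.line l) := fun l => by
    show (χ : G → ℂ) (B.hom h _) = _
    rw [B.hom_line h]
  have hline' : ∀ l, f (Multiplicative.ofAdd (-lineIdx l)) = (χ : G → ℂ) (B.line l) := fun l => by
    show (χ : G → ℂ) (B.hom h _) = _
    rw [ofAdd_neg, map_inv, B.hom_line h]
    exact (IsClass.eq_of_isConj (IsIrr.classFun χ.2) (hinv _ (B.line_mem h l))).symm
  have f00 : f (Multiplicative.ofAdd ((0, 0) : ZMod 3 × ZMod 3)) = (χ : G → ℂ) 1 := by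
    show (χ : G → ℂ) (B.hom h 1) = _
    rw [map_one]
  have s3 : ∀ F : ZMod 3 → ℂ, ∑ i : ZMod 3, F i = F 0 + F 1 + F 2 := fun F => Fin.sum_univ_three F
  have h0 := hline 0
  have h0' := hline' 0
  have h1 := hline 1
  have h1' := hline' 1
  have h2 := hline 2
  have h2' := hline' 2
  have h3 := hline 3
  have h3' := hline' 3
  rw [show lineIdx 0 = (1, 0) from rfl] at h0
  rw [show -lineIdx 0 = (2, 0) by decide] at h0'
  rw [show lineIdx 1 = (0, 1) from rfl] at h1
  rw [show -lineIdx 1 = (0, 2) by decide] at h1'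
  rw [show lineIdx 2 = (1, 1) from rfl] at h2
  rw [show -lineIdx 2 = (2, 2) by decide] at h2'
  rw [show lineIdx 3 = (1, 2) from rfl] at h3
  rw [show -lineIdx 3 = (2, 1) by decide] at h3'
  have psi0 : conj (ψ 0) = 1 := by simp [ψ, AddChar.zmodChar_apply]
  have psi1 : conj (ψ 1) = ω ^ 2 := by
    simp [ψ, AddChar.zmodChar_apply, ZMod.val_one, hconj]
  have psi2 : conj (ψ 2) = ω := by
    rw [AddChar.zmodChar_apply, show (2 : ZMod 3).val = 2 from rfl, map_pow, hconj]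
    linear_combination ω * hω3
  set d := (χ : G → ℂ) 1
  set v0 := (χ : G → ℂ) (B.line 0)
  set v1 := (χ : G → ℂ) (B.line 1)
  set v2 := (χ : G → ℂ) (B.line 2)
  set v3 := (χ : G → ℂ) (B.line 3)
  have hev : ∀ p : ZMod 3 × ZMod 3, classInner f (fun x => lam p x) = (9 : ℂ)⁻¹ *
      ((d * conj (ψ 0) + v1 * conj (ψ p.2) + v1 * conj (ψ (p.2 * 2))) +
       (v0 * conj (ψ p.1) + v2 * conj (ψ (p.1 + p.2)) + v3 * conj (ψ (p.1 + p.2 * 2))) +
       (v0 * conj (ψ (p.1 * 2)) + v3 * conj (ψ (p.1 * 2 + p.2)) +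
        v2 * conj (ψ (p.1 * 2 + p.2 * 2)))) := by
    intro p
    rw [hinner, Fintype.sum_prod_type, s3, s3, s3, s3, f00, h0, h0', h1, h1', h2, h2', h3, h3']
    simp only [mul_zero, add_zero, zero_add, mul_one]
  obtain ⟨n, hn⟩ := hnat (0, 0)
  obtain ⟨n0, hn0⟩ := hnat (0, 1)
  obtain ⟨n1, hn1⟩ := hnat (1, 0)
  obtain ⟨n2, hn2⟩ := hnat (1, 2)
  obtain ⟨n3, hn3⟩ := hnat (1, 1)
  have ea : d + 2 * (v0 + v1 + v2 + v3) = 9 * n := by
    rw [hev] at hn
    simp only [zero_mul, add_zero, psi0] at hn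
    linear_combination 9 * hn
  have e0 : d + 3 * v0 - (v0 + v1 + v2 + v3) = 9 * n0 := by
    rw [hev] at hn0
    simp only [zero_mul, one_mul, zero_add, psi0, psi1, psi2] at hn0
    linear_combination 9 * hn0 - (v1 + v2 + v3) * hsum
  have e1 : d + 3 * v1 - (v0 + v1 + v2 + v3) = 9 * n1 := by
    rw [hev] at hn1
    simp only [zero_mul, one_mul, add_zero, psi0, psi1, psi2] at hn1
    linear_combination 9 * hn1 - (v0 + v2 + v3) * hsum
  have r : (1 + 2 : ZMod 3) = 0 ∧ (1 + 2 * 2 : ZMod 3) = 2 ∧ (2 + 2 : ZMod 3) = 1 ∧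
      (2 + 2 * 2 : ZMod 3) = 0 ∧ (1 + 1 : ZMod 3) = 2 ∧ (2 + 1 : ZMod 3) = 0 ∧
      (2 * 2 : ZMod 3) = 1 := by decide
  have e2 : d + 3 * v2 - (v0 + v1 + v2 + v3) = 9 * n2 := by
    rw [hev] at hn2
    simp only [one_mul, r.1, r.2.2.1, r.2.2.2.2.2.2] at hn2
    rw [show (2 : ZMod 3) + 1 = 0 from rfl, show (1 : ZMod 3) + 1 = 2 from rfl] at hn2
    simp only [psi0, psi1, psi2] at hn2
    linear_combination 9 * hn2 - (v0 + v1 + v3) * hsum
  have e3 : d + 3 * v3 - (v0 + v1 + v2 + v3) = 9 * n3 := by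
    rw [hev] at hn3
    simp only [one_mul] at hn3
    rw [show (2 : ZMod 3) + 1 = 0 from rfl, show (1 : ZMod 3) + 1 = 2 from rfl] at hn3
    simp only [r.1, r.2.2.1, psi0, psi1, psi2] at hn3
    linear_combination 9 * hn3 - (v0 + v1 + v2) * hsum
  refine ⟨n, ![n0, n1, n2, n3], ?_, fun l => ?_⟩
  · push_cast [Matrix.cons_val_zero, Matrix.cons_val_one, Matrix.cons_val]
    linear_combination (1 / 9 : ℂ) * ea + (2 / 9 : ℂ) * (e0 + e1 + e2 + e3)
  · fin_cases l
    · show v0 = ((n + 3 * n0 - (n0 + n1 + n2 + n3) : ℤ) : ℂ)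
      push_cast
      linear_combination (1 / 9 : ℂ) * ea + (1 / 3 : ℂ) * e0 - (1 / 9 : ℂ) * (e0 + e1 + e2 + e3)
    · show v1 = ((n + 3 * n1 - (n0 + n1 + n2 + n3) : ℤ) : ℂ)
      push_cast
      linear_combination (1 / 9 : ℂ) * ea + (1 / 3 : ℂ) * e1 - (1 / 9 : ℂ) * (e0 + e1 + e2 + e3)
    · show v2 = ((n + 3 * n2 - (n0 + n1 + n2 + n3) : ℤ) : ℂ)
      push_cast
      linear_combination (1 / 9 : ℂ) * ea + (1 / 3 : ℂ) * e2 - (1 / 9 : ℂ) * (e0 + e1 + e2 + e3)
    · show v3 = ((n + 3 * n3 - (n0 + n1 + n2 + n3) : ℤ) : ℂ)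
      push_cast
      linear_combination (1 / 9 : ℂ) * ea + (1 / 3 : ℂ) * e3 - (1 / 9 : ℂ) * (e0 + e1 + e2 + e3)

/-- The degree and the four values of a character as integers. -/
structure Vals (B : Basis T) where
  deg : IrrCharacter G → ℤ
  v : Fin 4 → IrrCharacter G → ℤ
  deg_eq : ∀ χ : IrrCharacter G, (χ : G → ℂ) 1 = (deg χ : ℂ)
  v_eq : ∀ (l : Fin 4) (χ : IrrCharacter G), (χ : G → ℂ) (B.line l) = (v l χ : ℂ)
  pos : ∀ χ, 0 < deg χ
  triv_deg : deg (trivialIrr G) = 1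
  triv : ∀ l, v l (trivialIrr G) = 1
  congr3 : ∀ l m χ, (3 : ℤ) ∣ v l χ - v m χ
  congr9 : ∀ χ, (9 : ℤ) ∣ deg χ + 2 * (v 0 χ + v 1 χ + v 2 χ + v 3 χ)

theorem Basis.exists_vals (B : Basis T) (h : Hyp T)
    (hinv : ∀ t ∈ (T : Subgroup G), IsConj t t⁻¹) : Nonempty (Vals B) := by
  classical
  choose a b hd hv using B.exists_dual h hinv
  refine ⟨⟨fun χ => a χ + 2 * (b χ 0 + b χ 1 + b χ 2 + b χ 3),
    fun l χ => a χ + 3 * b χ l - (b χ 0 + b χ 1 + b χ 2 + b χ 3), hd, fun l χ => hv χ l,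
    fun χ => ?_, ?_, fun l => ?_, fun l m χ => ⟨(b χ l : ℤ) - b χ m, by ring⟩,
    fun χ => ⟨(a χ : ℤ), by ring⟩⟩⟩
  · obtain ⟨n, hn, hn'⟩ := IsIrr.one_eq_pos χ.2
    rw [hd χ] at hn'
    have : (a χ + 2 * (b χ 0 + b χ 1 + b χ 2 + b χ 3) : ℤ) = n := by exact_mod_cast hn'
    omega
  · have e := hd (trivialIrr G)
    rw [show ((trivialIrr G : IrrCharacter G) : G → ℂ) 1 = 1 from rfl] at e
    exact_mod_cast e.symm
  · have e := hv (trivialIrr G) l
    rw [show ((trivialIrr G : IrrCharacter G) : G → ℂ) (B.line l) = 1 from rfl] at e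
    exact_mod_cast e.symm

theorem Vals.sum_self {B : Basis T} (V : Vals B) (h : Hyp T) (l : Fin 4) :
    ∑ χ, V.v l χ * V.v l χ = 9 := by
  classical
  have e := sum_irr_mul_conj (B.line l) (B.line l)
  rw [if_pos (IsConj.refl _), h.cent _ (B.line_mem h l) (B.line_ne_one h l), h.card] at e
  simp only [V.v_eq, map_intCast] at e
  exact_mod_cast e

theorem Vals.sum_ne {B : Basis T} (V : Vals B) {l m : Fin 4}
    (hlm : ¬ IsConj (B.line l) (B.line m)) : ∑ χ, V.v l χ * V.v m χ = 0 := by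
  classical
  have e := sum_irr_mul_conj (B.line l) (B.line m)
  rw [if_neg hlm] at e
  simp only [V.v_eq, map_intCast] at e
  exact_mod_cast e

theorem Vals.sum_deg {B : Basis T} (V : Vals B) (h : Hyp T) (l : Fin 4) :
    ∑ χ, V.v l χ * V.deg χ = 0 := by
  classical
  have e := sum_irr_mul_conj (B.line l) 1
  rw [if_neg fun hc => B.line_ne_one h l (isConj_one_left.mp hc)] at e
  simp only [V.v_eq, V.deg_eq, map_intCast] at e
  exact_mod_cast e

theorem Vals.pair {B : Basis T} (V : Vals B) (h : Hyp T) {l m : Fin 4}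
    (hlm : ¬ IsConj (B.line l) (B.line m)) : Pair (trivialIrr G) V.deg (V.v l) (V.v m) :=
  ⟨V.triv l, V.triv m, V.congr3 l m, V.sum_self h l, V.sum_self h m, V.sum_ne hlm,
    V.sum_deg h l, V.sum_deg h m⟩

/-- The class multiplication formula. -/
theorem Vals.count {B : Basis T} (V : Vals B) (h : Hyp T) [Fintype G]
    [DecidableRel (IsConj : G → G → Prop)] (l m : Fin 4) :
    (Nat.card G : ℚ) * ∑ χ, ((V.v l χ : ℚ) * V.v l χ * V.v m χ) / V.deg χ =
      9 * ((Finset.univ.filter fun g : G =>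
        IsConj (B.line l * (g * B.line l * g⁻¹)) (B.line m)).card : ℚ) := by
  classical
  set x := B.line l
  set z := B.line m with hz
  have e : ∑ χ : IrrCharacter G, ∑ g : G,
      (χ : G → ℂ) (x * (g * x * g⁻¹)) * conj ((χ : G → ℂ) z) =
      9 * ((Finset.univ.filter fun g : G => IsConj (x * (g * x * g⁻¹)) z).card : ℂ) := by
    rw [Finset.sum_comm]
    simp only [sum_irr_mul_conj]
    rw [h.cent z (B.line_mem h m) (B.line_ne_one h m), h.card, Finset.card_filter]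
    push_cast
    rw [Finset.mul_sum]
    refine Finset.sum_congr rfl fun g _ => ?_
    split_ifs <;> simp_all
  have e2 : ∀ χ : IrrCharacter G,
      ∑ g : G, (χ : G → ℂ) (x * (g * x * g⁻¹)) * conj ((χ : G → ℂ) z) =
      (Nat.card G : ℂ) * (((V.v l χ : ℂ) * V.v l χ * V.v m χ) / V.deg χ) := by
    intro χ
    rw [← Finset.sum_mul, sum_mul_conj, V.deg_eq χ, show (χ : G → ℂ) x = V.v l χ from V.v_eq l χ,
      show (χ : G → ℂ) z = V.v m χ from V.v_eq m χ, map_intCast]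
    ring
  simp only [e2, ← Finset.mul_sum] at e
  exact_mod_cast e

/-- Solutions of the class equation lie in `T`. -/
theorem Hyp.solution_mem (h : Hyp T) (hinv : ∀ t ∈ (T : Subgroup G), IsConj t t⁻¹) {x z : G}
    (hx : x ∈ (T : Subgroup G)) (hx1 : x ≠ 1) (hz : z ∈ (T : Subgroup G)) (hxz : ¬ IsConj x z)
    {g : G} (hg : IsConj (x * (g * x * g⁻¹)) z) :
    g * x * g⁻¹ ∈ (T : Subgroup G) := by
  by_contra hy
  have hy3 : g * x * g⁻¹ * (g * x * g⁻¹) * (g * x * g⁻¹) = 1 := by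
    calc _ = g * (x * x * x) * g⁻¹ := by group
      _ = 1 := by rw [h.pow_three' hx]; group
  obtain ⟨c, hc⟩ := isConj_iff.mp hg.symm
  have hxy : x * (g * x * g⁻¹) * (x * (g * x * g⁻¹)) * (x * (g * x * g⁻¹)) = 1 := by
    rw [← hc]
    calc _ = c * (z * z * z) * c⁻¹ := by group
      _ = 1 := by rw [h.pow_three' hz]; group
  have h1 := (h.triple hx hx1 hy3 hxy hy).2
  refine hxz (h1.trans ?_)
  rw [← hc]
  refine (isConj_iff.mpr ⟨c⁻¹, ?_⟩ : IsConj (c * z * c⁻¹)⁻¹ z⁻¹).trans (hinv z hz).symm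
  group

/-- A linear character with value one on `T` gives a proper normal subgroup containing `T`. -/
theorem exists_normal_of_linear_char (h : Hyp T) {B : Basis T} (V : Vals B)
    {χ : IrrCharacter G} (hne : χ ≠ trivialIrr G) (hd : V.deg χ = 1) (hv : ∀ l, V.v l χ = 1) :
    ∃ K : Subgroup G, K.Normal ∧ (T : Subgroup G) ≤ K ∧ K ≠ ⊤ := by
  classical
  have h1 : (χ : G → ℂ) 1 = 1 := by rw [V.deg_eq, hd, Int.cast_one]
  obtain ⟨l, hl⟩ := linearHom_of_isCharacter (IsIrr.isCharacter χ.2) h1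
  have hline : ∀ i, l (B.line i) = 1 := fun i => by
    refine Units.ext ?_
    have e := V.v_eq i χ
    rw [hl, hv i, Int.cast_one] at e
    exact e
  refine ⟨l.ker, inferInstance, fun t ht => ?_, fun he => hne (Subtype.ext ?_)⟩
  · rcases B.cases h ht with rfl | ⟨i, rfl | rfl⟩
    · exact one_mem _
    · exact hline i
    · exact inv_mem (hline i)
  · rw [hl]
    funext g
    rw [show l g = 1 from he ▸ Subgroup.mem_top g |> MonoidHom.mem_ker.mp]
    rfl

end Cfsg.Agent.Block.NineCC
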