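import Mathlib
import Cfsg.Agent.Lib.Block.NineCC.Chars
import Cfsg.Agent.Lib.Invol.SimpleOrder360

/-!
A Sylow 3-subgroup of order nine with all centralizers minimal and at least two classes is normal,
or the group is alternating of degree six.
-/

set_option autoImplicit false
set_option linter.style.haveILetI false
set_option linter.unusedSectionVars false

namespace Cfsg.Agent.Block.NineCC

open Subgroup Cfsg Cfsg.Agent.Char Cfsg.Agent.Block

universe u

variable {G : Type u} [Group G] [Finite G] {T : Sylow 3 G}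

/-- With an automizer of order two each class meets `T` in an element and its inverse. -/
theorem Hyp.class_eighteen (h : Hyp T)
    (h18 : Nat.card (normalizer ((T : Subgroup G) : Set G)) = 18) {t s : G}
    (ht : t ∈ (T : Subgroup G)) (ht1 : t ≠ 1) (hs : s ∈ (T : Subgroup G)) (hc : IsConj t s) :
    s = t ∨ s = t⁻¹ := by
  classical
  haveI := Fintype.ofFinite G
  have e := h.card_class ht ht1
  rw [h18] at e
  have hi := h.isConj_inv (by rw [h18]; norm_num) ht
  by_contra hcon
  push Not at hcon
  have h3 : ({t, t⁻¹, s} : Finset G).card = 3 :=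
    Finset.card_eq_three.mpr ⟨_, _, _, h.ne_inv ht ht1, hcon.1.symm, hcon.2.symm, rfl⟩
  have hle : ({t, t⁻¹, s} : Finset G).card ≤
      (Finset.univ.filter fun r : G => r ∈ (T : Subgroup G) ∧ IsConj t r).card := by
    refine Finset.card_le_card fun r hr => ?_
    simp only [Finset.mem_insert, Finset.mem_singleton] at hr
    refine Finset.mem_filter.mpr ⟨Finset.mem_univ _, ?_⟩
    rcases hr with rfl | rfl | rfl
    · exact ⟨ht, IsConj.refl _⟩
    · exact ⟨inv_mem ht, hi⟩
    · exact ⟨hs, hc⟩
  rw [Nat.subtype_card (Finset.univ.filter fun r : G => r ∈ (T : Subgroup G) ∧ IsConj t r)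
    (fun r => by simp)] at e
  omega

theorem Hyp.exists_basis' (h : Hyp T) : Nonempty (Basis T) := by
  have hT : ∃ a ∈ (T : Subgroup G), a ≠ 1 := by
    by_contra hcon
    push Not at hcon
    have h9 := h.card
    rw [(Subgroup.eq_bot_iff_forall _).mpr hcon, Subgroup.card_bot] at h9
    omega
  obtain ⟨a, ha, ha1⟩ := hT
  obtain ⟨b, hb, hb1⟩ : ∃ b ∈ (T : Subgroup G), b ∉ zpowers a := by
    by_contra hcon
    push Not at hcon
    have hle := Subgroup.card_le_of_le (H := (T : Subgroup G)) (K := zpowers a) hcon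
    rw [h.card, Nat.card_zpowers] at hle
    have := Nat.le_of_dvd (by norm_num) (orderOf_dvd_of_pow_eq_one (h.exp a ha))
    omega
  exact ⟨⟨a, b, ha, hb, ha1, hb1⟩⟩

/-- An automizer of order two gives a proper normal subgroup containing `T`. -/
theorem Hyp.exists_normal_eighteen (h : Hyp T)
    (h18 : Nat.card (normalizer ((T : Subgroup G) : Set G)) = 18) :
    ∃ K : Subgroup G, K.Normal ∧ (T : Subgroup G) ≤ K ∧ K ≠ ⊤ := by
  classical
  haveI := Fintype.ofFinite G
  obtain ⟨B⟩ := h.exists_basis'
  have hinv : ∀ t ∈ (T : Subgroup G), IsConj t t⁻¹ := fun t ht =>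
    h.isConj_inv (by rw [h18]; norm_num) ht
  obtain ⟨V⟩ := B.exists_vals h hinv
  have hne : ∀ l m, l ≠ m → ¬ IsConj (B.line l) (B.line m) := fun l m hlm hc =>
    hlm ((B.line_inj h ((h.class_eighteen h18 (B.line_mem h l) (B.line_ne_one h l)
      (B.line_mem h m) hc).imp id id)).symm)
  have heq : ∑ χ, ((V.v 0 χ : ℚ) * V.v 0 χ * V.v 1 χ) / V.deg χ = 0 := by
    have e := V.count h 0 1
    rw [Finset.filter_eq_empty_iff.mpr, Finset.card_empty, Nat.cast_zero, mul_zero] at e
    · exact (mul_eq_zero.mp e).resolve_left (Nat.cast_ne_zero.mpr Nat.card_pos.ne')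
    intro g _ hg
    set x := B.line 0
    have hx := B.line_mem h 0
    have hx1 := B.line_ne_one h 0
    have hy := h.solution_mem hinv hx hx1 (B.line_mem h 1) (hne 0 1 (by decide)) hg
    rcases h.class_eighteen h18 hx hx1 hy (isConj_iff.mpr ⟨g, rfl⟩) with e | e <;> rw [e] at hg
    · rw [← h.inv_eq_sq hx] at hg
      exact hne 0 1 (by decide) ((hinv x hx).trans hg)
    · rw [mul_inv_cancel] at hg
      exact B.line_ne_one h 1 (isConj_one_right.mp hg)
  obtain ⟨χ, hχ, hd, hv⟩ := four_columns V.pos V.triv_deg (fun l m hlm => V.pair h (hne l m hlm)) heq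
  exact exists_normal_of_linear_char h V hχ hd hv

theorem Hyp.normal_eighteen (h : Hyp T)
    (h18 : Nat.card (normalizer ((T : Subgroup G) : Set G)) = 18) : (T : Subgroup G).Normal := by
  obtain ⟨K, hKn, hTK, hK⟩ := h.exists_normal_eighteen h18
  obtain ⟨hd, hne⟩ := card_inf_lt T hTK hK
  have h9 : 9 ∣ Nat.card (normalizer ((T : Subgroup G) : Set G) ⊓ K : Subgroup G) :=
    h.card ▸ Subgroup.card_dvd_of_le (le_inf le_normalizer hTK)
  refine normal_of_normal_subtype T hTK ((h.subtype hTK).normal_of_nine ?_)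
  rw [card_normalizer_subtype T hTK]
  rw [h18] at hd hne
  have := Nat.le_of_dvd (by norm_num) hd
  have := Nat.card_pos (α := (normalizer ((T : Subgroup G) : Set G) ⊓ K : Subgroup G))
  omega

/-- With an automizer of order four there are two classes, which can be given by a basis. -/
theorem Hyp.classes_thirtysix (h : Hyp T)
    (h36 : Nat.card (normalizer ((T : Subgroup G) : Set G)) = 36) :
    ∃ B : Basis T, IsConj (B.line 0) (B.line 1) ∧ IsConj (B.line 2) (B.line 3) ∧
      ¬ IsConj (B.line 0) (B.line 2) ∧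
      ∀ t ∈ (T : Subgroup G), t ≠ 1 →
        Nat.card {s : G // s ∈ (T : Subgroup G) ∧ IsConj t s} = 4 := by
  classical
  haveI := Fintype.ofFinite G
  have h4 : ∀ t ∈ (T : Subgroup G), t ≠ 1 →
      Nat.card {s : G // s ∈ (T : Subgroup G) ∧ IsConj t s} = 4 := fun t ht ht1 => by
    have e := h.card_class ht ht1
    omega
  have hinv : ∀ t ∈ (T : Subgroup G), IsConj t t⁻¹ := fun t ht =>
    h.isConj_inv (by rw [h36]; norm_num) ht
  obtain ⟨B0⟩ := h.exists_basis'
  set a := B0.a
  obtain ⟨b, hb, hab, hb0, hb1⟩ : ∃ b ∈ (T : Subgroup G), IsConj a b ∧ b ≠ a ∧ b ≠ a⁻¹ := by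
    by_contra hcon
    push Not at hcon
    have e := h4 a B0.ha B0.ha1
    rw [Nat.subtype_card (Finset.univ.filter fun r : G => r ∈ (T : Subgroup G) ∧ IsConj a r)
      (fun r => by simp)] at e
    have hle : (Finset.univ.filter fun r : G => r ∈ (T : Subgroup G) ∧ IsConj a r).card ≤
        ({a, a⁻¹} : Finset G).card := by
      refine Finset.card_le_card fun r hr => ?_
      obtain ⟨hr1, hr2⟩ := (Finset.mem_filter.mp hr).2
      simp only [Finset.mem_insert, Finset.mem_singleton]
      exact or_iff_not_imp_left.mpr fun hne => hcon r hr1 hr2 hne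
    have := Finset.card_le_two (a := a) (b := a⁻¹)
    omega
  have hbne : b ≠ 1 := fun e => B0.ha1 (isConj_one_left.mp (e ▸ hab))
  obtain ⟨B, hBa, hBb⟩ := exists_basis h B0.ha hb B0.ha1 hbne hb0 hb1
  have h01 : IsConj (B.line 0) (B.line 1) := by
    show IsConj B.a B.b
    rw [hBa, hBb]; exact hab
  have hout : ∀ m : Fin 4, m ≠ 0 → m ≠ 1 → ¬ IsConj (B.line 0) (B.line m) := by
    intro m m0 m1 hc
    have e := h4 _ (B.line_mem h 0) (B.line_ne_one h 0)
    rw [Nat.subtype_card
      (Finset.univ.filter fun r : G => r ∈ (T : Subgroup G) ∧ IsConj (B.line 0) r)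
      (fun r => by simp)] at e
    have hsub : ({B.line 0, (B.line 0)⁻¹, B.line 1, (B.line 1)⁻¹, B.line m} : Finset G).card ≤
        (Finset.univ.filter fun r : G => r ∈ (T : Subgroup G) ∧ IsConj (B.line 0) r).card := by
      refine Finset.card_le_card fun r hr => Finset.mem_filter.mpr ⟨Finset.mem_univ _, ?_⟩
      simp only [Finset.mem_insert, Finset.mem_singleton] at hr
      rcases hr with rfl | rfl | rfl | rfl | rfl
      · exact ⟨B.line_mem h 0, IsConj.refl _⟩
      · exact ⟨inv_mem (B.line_mem h 0), hinv _ (B.line_mem h 0)⟩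
      · exact ⟨B.line_mem h 1, h01⟩
      · exact ⟨inv_mem (B.line_mem h 1), h01.trans (hinv _ (B.line_mem h 1))⟩
      · exact ⟨B.line_mem h m, hc⟩
    have hne : ∀ l k : Fin 4, l ≠ k → B.line l ≠ B.line k ∧ B.line l ≠ (B.line k)⁻¹ :=
      fun l k hlk => ⟨fun e => hlk (B.line_inj h (Or.inl e)),
        fun e => hlk (B.line_inj h (Or.inr e))⟩
    have hi : ∀ l, B.line l ≠ (B.line l)⁻¹ := fun l => h.ne_inv (B.line_mem h l) (B.line_ne_one h l)
    have h5 : ({B.line 0, (B.line 0)⁻¹, B.line 1, (B.line 1)⁻¹, B.line m} : Finset G).card = 5 := by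
      have h01' : (0 : Fin 4) ≠ 1 := by decide
      rw [Finset.card_insert_of_notMem, Finset.card_insert_of_notMem, Finset.card_insert_of_notMem,
        Finset.card_pair]
      · intro e; exact (hne m 1 m1).2 e.symm
      · simp only [Finset.mem_insert, Finset.mem_singleton, not_or]
        exact ⟨hi 1, fun e => (hne m 1 m1).1 e.symm⟩
      · simp only [Finset.mem_insert, Finset.mem_singleton, not_or]
        exact ⟨fun e => (hne 1 0 h01'.symm).2 e.symm, fun e => (hne 0 1 h01').1 (inv_inj.mp e),
          fun e => (hne m 0 m0).2 e.symm⟩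
      · simp only [Finset.mem_insert, Finset.mem_singleton, not_or]
        exact ⟨hi 0, (hne 0 1 h01').1, (hne 0 1 h01').2, (hne 0 m m0.symm).1⟩
    omega
  refine ⟨B, h01, ?_, hout 2 (by decide) (by decide), h4⟩
  by_contra h23
  have e := h4 _ (B.line_mem h 2) (B.line_ne_one h 2)
  rw [Nat.subtype_card
    (Finset.univ.filter fun r : G => r ∈ (T : Subgroup G) ∧ IsConj (B.line 2) r)
    (fun r => by simp)] at e
  have hle : (Finset.univ.filter fun r : G => r ∈ (T : Subgroup G) ∧ IsConj (B.line 2) r).card ≤
      ({B.line 2, (B.line 2)⁻¹} : Finset G).card := by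
    refine Finset.card_le_card fun r hr => ?_
    obtain ⟨hr1, hr2⟩ := (Finset.mem_filter.mp hr).2
    simp only [Finset.mem_insert, Finset.mem_singleton]
    rcases B.cases h hr1 with rfl | ⟨l, hl⟩
    · exact absurd (isConj_one_left.mp hr2) (B.line_ne_one h 2)
    have hc : IsConj (B.line 2) (B.line l) := by
      rcases hl with rfl | rfl
      · exact hr2
      · exact hr2.trans (hinv _ (B.line_mem h l)).symm
    have hl2 : l = 2 := by
      fin_cases l
      · exact absurd hc.symm (hout 2 (by decide) (by decide))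
      · exact absurd (h01.trans hc.symm) (hout 2 (by decide) (by decide))
      · rfl
      · exact absurd hc h23
    subst hl2
    exact hl
  have := Finset.card_le_two (a := B.line 2) (b := (B.line 2)⁻¹)
  omega

/-- The solutions of the class equation with an automizer of order four. -/
theorem Hyp.count_thirtysix (h : Hyp T) [Fintype G] [DecidableEq G]
    [DecidableRel (IsConj : G → G → Prop)]
    (hinv : ∀ t ∈ (T : Subgroup G), IsConj t t⁻¹) (B : Basis T)
    (h01 : IsConj (B.line 0) (B.line 1)) (h23 : IsConj (B.line 2) (B.line 3))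
    (h02 : ¬ IsConj (B.line 0) (B.line 2)) :
    (Finset.univ.filter fun g : G =>
      IsConj (B.line 0 * (g * B.line 0 * g⁻¹)) (B.line 2)).card = 18 := by
  classical
  have hm := B.line_mem h
  have h1 := B.line_ne_one h
  have hab : B.line 0 * B.line 1 = B.line 2 := rfl
  have hab' : B.line 0 * (B.line 1)⁻¹ = B.line 3 := rfl
  have hset : (Finset.univ.filter fun g : G =>
      IsConj (B.line 0 * (g * B.line 0 * g⁻¹)) (B.line 2)) =
      (Finset.univ.filter fun g : G => g * B.line 0 * g⁻¹ = B.line 1) ∪
      (Finset.univ.filter fun g : G => g * B.line 0 * g⁻¹ = (B.line 1)⁻¹) := by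
    ext g
    simp only [Finset.mem_union, Finset.mem_filter, Finset.mem_univ, true_and]
    constructor
    · intro hg
      have hy := h.solution_mem hinv (hm 0) (h1 0) (hm 2) h02 hg
      have hyc : IsConj (B.line 0) (g * B.line 0 * g⁻¹) := isConj_iff.mpr ⟨g, rfl⟩
      rcases B.cases h hy with e | ⟨l, e⟩
      · exact absurd (conj_eq_one_iff.mp e) (h1 0)
      have hc : IsConj (B.line 0) (B.line l) := by
        rcases e with e | e
        · exact e ▸ hyc
        · exact (e ▸ hyc).trans (hinv _ (hm l)).symm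
      fin_cases l
      · exfalso
        rcases e with e | e <;> rw [e] at hg
        · change IsConj (B.line 0 * B.line 0) (B.line 2) at hg
          rw [← h.inv_eq_sq (hm 0)] at hg
          exact h02 ((hinv _ (hm 0)).trans hg)
        · change IsConj (B.line 0 * (B.line 0)⁻¹) (B.line 2) at hg
          rw [mul_inv_cancel] at hg
          exact h1 2 (isConj_one_right.mp hg)
      · exact e
      · exact absurd hc h02
      · exact absurd (hc.trans h23.symm) h02
    · rintro (e | e) <;> rw [e]
      · rw [hab]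
      · rw [hab']; exact h23.symm
  rw [hset, Finset.card_union_of_disjoint, h.card_fiber (hm 0) (h1 0) h01,
    h.card_fiber (hm 0) (h1 0) (h01.trans (hinv _ (hm 1)))]
  refine Finset.disjoint_filter.mpr fun g _ e e' => ?_
  exact h.ne_inv (hm 1) (h1 1) (e.symm.trans e')

/-- An automizer of order four gives a proper normal subgroup containing `T`, or order 360. -/
theorem Hyp.thirtysix (h : Hyp T)
    (h36 : Nat.card (normalizer ((T : Subgroup G) : Set G)) = 36) :
    (T : Subgroup G).Normal ∨ (∃ K : Subgroup G, K.Normal ∧ (T : Subgroup G) ≤ K ∧ K ≠ ⊤) ∨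
      (Nat.card G = 360 ∧ IsSimpleGroup G) := by
  classical
  haveI := Fintype.ofFinite G
  have hinv : ∀ t ∈ (T : Subgroup G), IsConj t t⁻¹ := fun t ht =>
    h.isConj_inv (by rw [h36]; norm_num) ht
  obtain ⟨B, h01, h23, h02, h4⟩ := h.classes_thirtysix h36
  by_cases hK : ∃ K : Subgroup G, K.Normal ∧ (T : Subgroup G) ≤ K ∧ K ≠ ⊤
  · exact Or.inr (Or.inl hK)
  obtain ⟨V⟩ := B.exists_vals h hinv
  have eqv : ∀ l m, IsConj (B.line l) (B.line m) → ∀ χ, V.v l χ = V.v m χ := fun l m hc χ => by
    have e := IsClass.eq_of_isConj (IsIrr.classFun χ.2) hc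
    rw [V.v_eq, V.v_eq] at e
    exact_mod_cast e
  have e01 := eqv 0 1 h01
  have e23 := eqv 2 3 h23
  have h9 : ∀ χ, (9 : ℤ) ∣ V.deg χ + 4 * V.v 0 χ + 4 * V.v 2 χ := fun χ => by
    have := V.congr9 χ
    rw [← e01, ← e23] at this
    convert this using 1
    ring
  rcases two_columns V.pos V.triv_deg (V.pair h h02) h9 with ⟨χ, hχ, hd, hu, hv⟩ | hS
  · exact absurd (exists_normal_of_linear_char h V hχ hd (fun l => by
      fin_cases l
      · exact hu
      · exact (e01 χ).symm.trans hu
      · exact hv
      · exact (e23 χ).symm.trans hv)) hK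
  have e := V.count h 0 2
  rw [h.count_thirtysix hinv B h01 h23 h02] at e
  have hle : Nat.card G ≤ 720 := by
    have hg : (0 : ℚ) ≤ Nat.card G := Nat.cast_nonneg _
    have h1 := mul_le_mul_of_nonneg_left hS hg
    rw [e] at h1
    have : (Nat.card G : ℚ) ≤ 720 := by push_cast at h1; linarith
    exact_mod_cast this
  haveI := Fact.mk Nat.prime_three
  have hidx : Nat.card (Sylow 3 G) * 36 = Nat.card G := by
    rw [T.card_eq_index_normalizer, ← h36]
    exact Subgroup.index_mul_card _
  have h9' := h.card_sylow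
  rcases (show Nat.card (Sylow 3 G) = 1 ∨ Nat.card (Sylow 3 G) = 10 ∨ Nat.card (Sylow 3 G) = 19 by
      omega) with hm | hm | hm <;> rw [hm] at hidx
  · left
    refine normal_of_normalizer_eq_top T (Subgroup.eq_top_of_card_eq _ ?_)
    omega
  · refine Or.inr (Or.inr ⟨by omega, ?_⟩)
    haveI : Nontrivial G := Finite.one_lt_card_iff_nontrivial.mp (by omega)
    refine { eq_bot_or_eq_top_of_normal := fun W hW => ?_ }
    by_contra hne
    push Not at hne
    haveI := hW
    have h3 : 3 ∣ Nat.card W := by
      by_contra h3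
      exact hne.1 (h.eq_bot_of_not_dvd W h3)
    obtain ⟨t, ht, ht1, htW⟩ := exists_mem_of_dvd T W h3
    have h5 : 5 ≤ Nat.card ((T : Subgroup G) ⊓ W : Subgroup G) := by
      have e4 := h4 t ht ht1
      rw [Nat.subtype_card (Finset.univ.filter fun r : G => r ∈ (T : Subgroup G) ∧ IsConj t r)
        (fun r => by simp)] at e4
      rw [show Nat.card ((T : Subgroup G) ⊓ W : Subgroup G) =
        (Finset.univ.filter fun r : G => r ∈ (T : Subgroup G) ⊓ W).card from
          Nat.subtype_card _ (fun r => by simp)]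
      have hsub : insert 1 (Finset.univ.filter fun r : G => r ∈ (T : Subgroup G) ∧ IsConj t r) ⊆
          Finset.univ.filter fun r : G => r ∈ (T : Subgroup G) ⊓ W := by
        intro r hr
        refine Finset.mem_filter.mpr ⟨Finset.mem_univ _, ?_⟩
        rcases Finset.mem_insert.mp hr with rfl | hr
        · exact one_mem _
        · obtain ⟨hr1, hr2⟩ := (Finset.mem_filter.mp hr).2
          obtain ⟨c, hc⟩ := isConj_iff.mp hr2
          exact ⟨hr1, hc ▸ hW.conj_mem t htW c⟩
      have hle' := Finset.card_le_card hsub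
      rw [Finset.card_insert_of_notMem, e4] at hle'
      · exact hle'
      · simp [ht1]
    have hd := Subgroup.card_dvd_of_le (show (T : Subgroup G) ⊓ W ≤ (T : Subgroup G) from inf_le_left)
    rw [h.card] at hd
    have hTW : (T : Subgroup G) ≤ W := by
      have hle' : 9 ≤ Nat.card ((T : Subgroup G) ⊓ W : Subgroup G) := by
        have := Nat.le_of_dvd (by norm_num) hd
        interval_cases hh : Nat.card ((T : Subgroup G) ⊓ W : Subgroup G) <;> omega
      exact (Subgroup.eq_of_le_of_card_ge inf_le_left (by rw [h.card]; exact hle')).ge.trans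
        inf_le_right
    exact hK ⟨W, hW, hTW, hne.2⟩
  · exfalso
    haveI := Fact.mk (show Nat.Prime 19 by norm_num)
    have h684 : Nat.card G = 684 := by omega
    obtain ⟨P⟩ : Nonempty (Sylow 19 G) := inferInstance
    have hP : Nat.card (P : Subgroup G) = 19 := by
      have hd19 : 19 ∣ Nat.card (P : Subgroup G) := P.dvd_card_of_dvd_card (by rw [h684]; norm_num)
      obtain ⟨n, hn⟩ := P.isPGroup'.exists_card_eq
      have hdd := Subgroup.card_subgroup_dvd_card (P : Subgroup G)
      rw [h684, hn] at hdd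
      rw [hn]
      have : n ≤ 1 := by
        by_contra hgt
        have h2 : 19 ^ 2 ∣ 19 ^ n := pow_dvd_pow 19 (by omega)
        exact absurd (h2.trans hdd) (by norm_num)
      rcases (show n = 0 ∨ n = 1 by omega) with rfl | rfl
      · rw [hn] at hd19; norm_num at hd19
      · norm_num
    have hc1 : Nat.card (Sylow 19 G) = 1 := by
      have hmod : Nat.card (Sylow 19 G) ≡ 1 [MOD 19] := card_sylow_modEq_one 19 G
      have hdvd := P.card_dvd_index
      have hi : (P : Subgroup G).index = 36 := by
        have := Subgroup.index_mul_card (P : Subgroup G)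
        rw [hP, h684] at this
        omega
      rw [hi] at hdvd
      have := Nat.le_of_dvd (by norm_num) hdvd
      unfold Nat.ModEq at hmod
      interval_cases hh : Nat.card (Sylow 19 G) <;> omega
    haveI : Subsingleton (Sylow 19 G) := (Nat.card_eq_one_iff_unique.mp hc1).1
    haveI : (P : Subgroup G).Normal := P.normal_of_subsingleton
    have hb := h.eq_bot_of_not_dvd (P : Subgroup G) (by rw [hP]; norm_num)
    rw [hb, Subgroup.card_bot] at hP
    omega

/-- The main theorem. -/
theorem Hyp.normal_or_iso (h : Hyp T) (h2 : TwoClasses T) :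
    (T : Subgroup G).Normal ∨ (Nat.card (normalizer ((T : Subgroup G) : Set G)) = 36 ∧
      Nonempty (G ≃* alternatingGroup (Fin 6))) := by
  rcases h.card_normalizer h2 with e | e | e
  · exact Or.inl (h.normal_of_nine e)
  · exact Or.inl (h.normal_eighteen e)
  rcases h.thirtysix e with hN | ⟨K, hKn, hTK, hK⟩ | ⟨h360, hs⟩
  · exact Or.inl hN
  · left
    refine normal_of_normal_subtype T hTK ?_
    obtain ⟨hd, hne⟩ := card_inf_lt T hTK hK
    have hk := (h.subtype hTK).card_normalizer (h2.subtype hTK)
    rw [card_normalizer_subtype T hTK] at hk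
    rw [e] at hne
    rcases hk with hk | hk | hk
    · exact (h.subtype hTK).normal_of_nine (by rwa [card_normalizer_subtype T hTK])
    · exact (h.subtype hTK).normal_eighteen (by rwa [card_normalizer_subtype T hTK])
    · exact absurd hk hne
  · refine Or.inr ⟨e, ?_⟩
    haveI : IsSimpleGroup (alternatingGroup (Fin 6)) := alternatingGroup.isSimpleGroup (by simp)
    refine Invol.O360.iso h360 ?_
    rw [nat_card_alternatingGroup, Nat.card_eq_fintype_card, Fintype.card_fin]
    rfl

end Cfsg.Agent.Block.NineCC
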