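import Mathlib
import Cfsg.Agent.Lib.Block.NineCC.Main
import Cfsg.Agent.Lib.Fus.NineDihedral.Main
import Cfsg.Agent.Lib.Fus.NineFour.Main
import Cfsg.Agent.S4231

/-!
A self-centralizing Sylow 3-subgroup of order nine with dihedral automizer and local centralizers:
normal, or the group is symmetric of degree six.
-/

set_option autoImplicit false
set_option linter.style.haveILetI false
set_option linter.unusedSectionVars false

namespace Cfsg.Agent.Block.NineCC

open Subgroup Cfsg Equiv Equiv.Perm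

universe u

variable {G : Type u} [Group G] [Finite G] {T : Sylow 3 G}

abbrev DD := DihedralGroup 3 × DihedralGroup 3

/-- Both coordinates are rotations. -/
def isRot : DD → Bool
  | (.r _, .r _) => true
  | _ => false

/-- An even number of reflections. -/
def isEven : DD → Bool
  | (.r _, .r _) => true
  | (.sr _, .sr _) => true
  | _ => false

theorem rot_form : ∀ p : DD, isRot p = true → ∃ i j, p = (.r i, .r j) := by decide

theorem sq_rot : ∀ p : DD, isRot (p * p) = true := by decide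

theorem even_free : ∀ (p : DD) (i j : ZMod 3), isEven p = true → (i ≠ 0 ∨ j ≠ 0) →
    p * (.r i, .r j) * p⁻¹ = (.r i, .r j) → isRot p = true := by decide

theorem odd_free : ∀ (p : DD) (i j : ZMod 3), isEven p = false → (i ≠ 0 ∨ j ≠ 0) →
    (p * ((.r i, .r j) : DD) * p⁻¹).swap ≠ ((.r i, .r j) : DD) := by decide

theorem decide_facts :
    (∀ i j : ZMod 3, ((.sr 0, .sr 0) : DD) * (.r i, .r j) * (.sr 0, .sr 0)⁻¹ = (.r i, .r j)⁻¹) ∧
    ((.sr 0, .sr 0) : DD) = (.sr 0, 1) * (1, .sr 0) ∧ ((.sr 0, 1) : DD) * (.sr 0, 1) = 1 ∧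
    ((1, .sr 0) : DD) * (1, .sr 0) = 1 ∧
    (∀ p : DD, p * ((.r 1, .r 0) : DD) * p⁻¹ ≠ ((.r 1, .r 0) : DD).swap) ∧
    ((1, .r 1) : DD) * (1, .r 1) * (1, .r 1) = 1 ∧ ((1, .r 1) : DD) ≠ 1 ∧
    ((.sr 0, 1) : DD) * (1, .r 1) = (1, .r 1) * (.sr 0, 1) := by decide

theorem even_facts : ∀ i j : ZMod 3, isEven ((.r i, .r j) : DD) = true ∧
    isEven (((.sr 0, 1) : DD) * (.r i, .r j)) = false ∧
    isEven (((1, .sr 0) : DD) * (.r i, .r j)) = false ∧
    isEven (((.sr 0, .sr 0) : DD) * (.r i, .r j)) = true := by decide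

theorem parity : ∀ p : DD, ∃ i j, p = (.r i, .r j) ∨ p = (.sr 0, 1) * (.r i, .r j) ∨
    p = (1, .sr 0) * (.r i, .r j) ∨ p = (.sr 0, .sr 0) * (.r i, .r j) := by decide

/-- A normal subgroup meeting the normalizer in a copy of `D₃ × D₃`. -/
theorem normal_of_four {K : Subgroup G} [K.Normal] (hTK : (T : Subgroup G) ≤ K)
    (hcard : Nat.card (T : Subgroup G) = 9) (hel : ∀ t ∈ (T : Subgroup G), t ^ 3 = 1)
    (hcomm : ∀ s ∈ (T : Subgroup G), ∀ t ∈ (T : Subgroup G), s * t = t * s)
    (hC : centralizer ((T : Subgroup G) : Set G) = T)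
    (hloc : ∀ t ∈ (T : Subgroup G), t ≠ 1 →
      centralizer ({t} : Set G) ≤ normalizer ((T : Subgroup G) : Set G))
    (φ : DD →* G) (hφ : Function.Injective φ)
    (hrot : ∀ i j, φ (.r i, .r j) ∈ (T : Subgroup G))
    (hle : φ.range ≤ normalizer ((T : Subgroup G) : Set G) ⊓ K)
    (h36 : Nat.card (normalizer ((T : Subgroup G) : Set G) ⊓ K : Subgroup G) = 36) :
    (T : Subgroup G).Normal := by
  have hr : φ.range = normalizer ((T : Subgroup G) : Set G) ⊓ K :=
    Subgroup.eq_of_le_of_card_ge hle (by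
      rw [h36, ← Nat.card_congr (MonoidHom.ofInjective hφ).toEquiv, Nat.card_prod,
        DihedralGroup.nat_card])
  refine normal_of_normal_subtype T hTK (normal_of_normalizer_eq_top _ ?_)
  refine Fus.NineFour.normalizer_eq_top ?_ ?_ ?_ ?_ ?_ ?_
  · refine ⟨⟨⟨fun s t => ?_⟩⟩, fun t ht => ?_⟩
    · exact Subtype.ext (Subtype.ext (hcomm _ (mem_subgroupOf.mp s.2) _ (mem_subgroupOf.mp t.2)))
    · rw [Sylow.coe_subtype, mem_subgroupOf] at ht
      exact Subtype.ext (by simpa using hel _ ht)
  · rw [Sylow.coe_subtype, Nat.card_congr (subgroupOfEquivOfLe hTK).toEquiv, hcard]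
  · ext g
    rw [Sylow.coe_subtype]
    refine ⟨fun hg => ?_, fun hg => mem_centralizer_iff.mpr fun t ht => ?_⟩
    · rw [mem_subgroupOf, ← hC]
      exact mem_centralizer_iff.mpr fun t ht =>
        congrArg Subtype.val (mem_centralizer_iff.mp hg ⟨t, hTK ht⟩ (mem_subgroupOf.mpr ht))
    · exact Subtype.ext (hcomm _ (mem_subgroupOf.mp ht) _ (mem_subgroupOf.mp hg))
  · rw [card_normalizer_subtype T hTK, h36]
  · intro x hx
    have hxN : (x : G) ∈ normalizer ((T : Subgroup G) : Set G) ⊓ K := by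
      refine ⟨mem_normalizer_iff.mpr fun s => ⟨fun hs => ?_, fun hs => ?_⟩, x.2⟩
      · exact ((mem_normalizer_iff.mp hx ⟨s, hTK hs⟩).mp (mem_subgroupOf.mpr hs) :)
      · have hsK : s ∈ K := by
          have h1 := Subgroup.Normal.conj_mem inferInstance _ (hTK hs) (x : G)⁻¹
          rwa [show (x : G)⁻¹ * ((x : G) * s * (x : G)⁻¹) * (x : G)⁻¹⁻¹ = s by group] at h1
        exact mem_subgroupOf.mp ((mem_normalizer_iff.mp hx ⟨s, hsK⟩).mpr (mem_subgroupOf.mpr hs))
    obtain ⟨p, hp⟩ := (hr ▸ hxN : (x : G) ∈ φ.range)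
    obtain ⟨i, j, hij⟩ := rot_form _ (sq_rot p)
    rw [Sylow.coe_subtype, mem_subgroupOf, Subgroup.coe_mul, ← hp, ← map_mul, hij]
    exact hrot i j
  · intro t ht ht1 g hg
    rw [Sylow.coe_subtype, mem_subgroupOf] at ht
    have hgN : (g : G) ∈ normalizer ((T : Subgroup G) : Set G) :=
      hloc _ ht (fun e => ht1 (Subtype.ext e)) (mem_centralizer_singleton_iff.mpr
        (congrArg Subtype.val (mem_centralizer_singleton_iff.mp hg)))
    rw [mem_normalizer_iff]
    intro s
    simpa only [Sylow.coe_subtype, mem_subgroupOf, Subgroup.coe_mul, Subgroup.coe_inv] using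
      mem_normalizer_iff.mp hgN s

theorem keeps_mul {θ₁ θ₂ : MulAut (alternatingGroup (Fin 6))} (h1 : S4231.Keeps θ₁)
    (h2 : S4231.Keeps θ₂) : S4231.Keeps (θ₁ * θ₂) := fun x hx => by
  rw [MulAut.mul_apply]
  exact h1 _ (h2 x hx)

theorem keeps_conj (c : alternatingGroup (Fin 6)) : S4231.Keeps (MulAut.conj c) := fun x hx => by
  rw [MulAut.conj_apply, Subgroup.coe_mul, Subgroup.coe_mul, Subgroup.coe_inv,
    ← card_support_eq_three_iff, Perm.card_support_conj]
  exact hx.card_support

/-- An extension of index two of `A₆` in which an outer element centralizes an element of order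
three is `S₆`. -/
theorem iso_symSix (K : Subgroup G) [K.Normal] (e : K ≃* alternatingGroup (Fin 6))
    (hidx : K.index = 2) (hcent : ∀ g : G, (∀ k ∈ K, g * k = k * g) → g = 1) {r : G} (hr : r ∉ K)
    (x : K) (hx3 : x * x * x = 1) (hx1 : x ≠ 1) (hrx : r * x = x * r) :
    Nonempty (G ≃* Perm (Fin 6)) := by
  classical
  let f : G →* MulAut (alternatingGroup (Fin 6)) :=
    (MulAut.congr e).toMonoidHom.comp (MulAut.conjNormal (H := K))
  have hfapp : ∀ (g : G) (k : K), f g (e k) = e (MulAut.conjNormal g k) := fun g k => by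
    simp [f, MulAut.congr]
  have hinj : Function.Injective f := by
    refine (MonoidHom.ker_eq_bot_iff f).mp ((Subgroup.eq_bot_iff_forall _).mpr fun g hg => ?_)
    refine hcent g fun k hk => ?_
    have h1 := hfapp g ⟨k, hk⟩
    rw [MonoidHom.mem_ker.mp hg, MulAut.one_apply] at h1
    have h2 := congrArg Subtype.val (e.injective h1)
    rw [MulAut.conjNormal_apply] at h2
    exact (eq_mul_inv_iff_mul_eq.mp h2).symm
  have hK : ∀ k ∈ K, S4231.Keeps (f k) := by
    intro k hk
    rw [show f k = MulAut.conj (e ⟨k, hk⟩) from MulEquiv.ext fun y => by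
      obtain ⟨z, rfl⟩ := e.surjective y
      rw [hfapp, MulAut.conj_apply, ← map_inv, ← map_mul, ← map_mul]
      congr 1]
    exact keeps_conj _
  have hrk : S4231.Keeps (f r) := by
    by_contra hn
    obtain ⟨k1, k2⟩ := S4231.keeps_or hn
    have hfix : f r (e x) = e x := by
      rw [hfapp]
      congr 1
      apply Subtype.ext
      rw [MulAut.conjNormal_apply, hrx, mul_inv_cancel_right]
    have hc : ((e x : alternatingGroup (Fin 6)) : Perm (Fin 6)) * e x * e x = 1 := by
      rw [← Subgroup.coe_mul, ← Subgroup.coe_mul, ← map_mul, ← map_mul, hx3, map_one,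
        OneMemClass.coe_one]
    have hne : ((e x : alternatingGroup (Fin 6)) : Perm (Fin 6)) ≠ 1 := fun h =>
      hx1 (e.injective ((Subtype.ext h : e x = 1).trans (map_one e).symm))
    rcases S4231.six_facts.1 _ hc hne with h | h
    · have := k1 _ (card_support_eq_three_iff.mp h)
      rw [hfix] at this
      omega
    · have := (k2 _ hc h).card_support
      rw [hfix] at this
      omega
  have hall : ∀ g, f g ∈ (MulAut.conjNormal :
      Perm (Fin 6) →* MulAut (alternatingGroup (Fin 6))).range := by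
    intro g
    refine S4231.exists_perm_of (by simp) _ ?_
    show S4231.Keeps (f g)
    by_cases hg : g ∈ K
    · exact hK g hg
    · have hgr : g * r⁻¹ ∈ K := by
        rw [Subgroup.mul_mem_iff_of_index_two hidx, inv_mem_iff]
        exact iff_of_false hg hr
      rw [show g = g * r⁻¹ * r by group, map_mul]
      exact keeps_mul (hK _ hgr) hrk
  have hci : Function.Injective (MulAut.conjNormal :
      Perm (Fin 6) →* MulAut (alternatingGroup (Fin 6))) :=
    AltAut.conjNormal_injective (α := Fin 6) (by simp)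
  have hG : Nat.card G = 720 := by
    rw [← K.index_mul_card, hidx, Nat.card_congr e.toEquiv, nat_card_alternatingGroup,
      Nat.card_eq_fintype_card, Fintype.card_fin]
    rfl
  have heq : f.range = (MulAut.conjNormal :
      Perm (Fin 6) →* MulAut (alternatingGroup (Fin 6))).range := by
    refine Subgroup.eq_of_le_of_card_ge ?_ ?_
    · rintro _ ⟨g, rfl⟩
      exact hall g
    · rw [← Nat.card_congr (MonoidHom.ofInjective hci).toEquiv,
        ← Nat.card_congr (MonoidHom.ofInjective hinj).toEquiv, hG, Nat.card_perm, Nat.card_fin]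
      rfl
  exact ⟨((MonoidHom.ofInjective hinj).trans (MulEquiv.subgroupCongr heq)).trans
    (MonoidHom.ofInjective hci).symm⟩

/-- The theorem. -/
theorem normal_or_symSix [Fintype G] (P : Fus.NineDihedral.Pair G T)
    (hloc : ∀ t ∈ (T : Subgroup G), t ≠ 1 →
      centralizer ({t} : Set G) ≤ normalizer ((T : Subgroup G) : Set G))
    (hcard : Nat.card (T : Subgroup G) = 9) (hel : ∀ t ∈ (T : Subgroup G), t ^ 3 = 1)
    (hC : centralizer ((T : Subgroup G) : Set G) = T) :
    (T : Subgroup G).Normal ∨ Nonempty (G ≃* Perm (Fin 6)) := by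
  classical
  haveI := Fact.mk Nat.prime_three
  set N := normalizer ((T : Subgroup G) : Set G) with hN
  have hcomm : ∀ s ∈ (T : Subgroup G), ∀ t ∈ (T : Subgroup G), s * t = t * s := fun s hs t ht => by
    rw [← hC] at ht
    exact mem_centralizer_iff.mp ht s hs
  obtain ⟨χ, hχne, hχ1⟩ := Fus.NineDihedral.exists_linear P hloc
  obtain ⟨l, hl⟩ := Char.linearHom_of_isCharacter (Char.IsIrr.isCharacter χ.2) hχ1
  set K := l.ker with hKdef
  have hKne : K ≠ ⊤ := fun he => hχne (Subtype.ext (by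
    rw [hl]
    funext g
    rw [show l g = 1 from MonoidHom.mem_ker.mp (show g ∈ l.ker by rw [← hKdef, he]; trivial)]
    rfl))
  have hconj : ∀ g y : G, l (g * y * g⁻¹) = l y := fun g y => by
    rw [map_mul, map_mul, map_inv, mul_comm (l g), mul_inv_cancel_right]
  have hinvol : ∀ (φ : DD →* G) (p : DD), p * p = 1 → l (φ p) * l (φ p) = 1 := fun φ p hp => by
    rw [← map_mul, ← map_mul, hp, map_one, map_one]
  obtain ⟨hneg, hsplit, hsa, hsb, hd, hx3, hx1, hcx⟩ := decide_facts
  have hTK : (T : Subgroup G) ≤ K := by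
    intro t ht
    obtain ⟨i, j, hij⟩ := P.memT t ht
    have e := congrArg (fun p => l (P.φ₁ p)) (hneg i j)
    simp only [map_mul, map_inv, mul_comm (l (P.φ₁ (.sr 0, .sr 0))), mul_inv_cancel_right] at e
    rw [hij] at e
    have h3 : l t * l t * l t = 1 := by
      rw [← map_mul, ← map_mul, ← map_one l, ← hel t ht, pow_succ, pow_two]
    have h2 : l t * l t = 1 := mul_eq_one_iff_eq_inv.mpr e
    rw [h2, one_mul] at h3
    exact h3
  set a := P.φ₁ (.sr 0, 1) with ha
  set a' := P.φ₁ (1, .sr 0) with ha'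
  set b := P.φ₂ (.sr 0, 1) with hb
  set b' := P.φ₂ (1, .sr 0) with hb'
  have haa' : l a' = l a := by
    have e := P.swap₁ (.sr 0, 1)
    simp only [Prod.swap_prod_mk] at e
    rw [ha', ← e, hconj]
  have hbb' : l b' = l b := by
    have e := P.swap₂ (.sr 0, 1)
    simp only [Prod.swap_prod_mk] at e
    rw [hb', ← e, hconj]
  have hrange : ∀ φ : DD →* G, (∀ i j, φ (.r i, .r j) ∈ (T : Subgroup G)) → ∀ p,
      l (φ (1, .sr 0)) = l (φ (.sr 0, 1)) →
      l (φ p) = if isEven p = true then 1 else l (φ (.sr 0, 1)) := by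
    intro φ hrot p heq
    obtain ⟨i, j, hp⟩ := parity p
    have hr : l (φ (.r i, .r j)) = 1 := hTK (hrot i j)
    have hev := even_facts i j
    rcases hp with rfl | rfl | rfl | rfl
    · rw [hr, if_pos hev.1]
    · rw [map_mul, map_mul, hr, mul_one, hev.2.1]; simp
    · rw [map_mul, map_mul, hr, mul_one, heq, hev.2.2.1]; simp
    · rw [map_mul, map_mul, hr, mul_one, if_pos hev.2.2.2,
        hsplit, map_mul, map_mul, heq]
      exact hinvol φ _ hsa
  have hrot2 : ∀ i j, P.φ₂ (.r i, .r j) ∈ (T : Subgroup G) := fun i j => by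
    rw [P.rot]; exact P.rot_mem _ _
  have h1 := hrange P.φ₁ P.rot_mem
  have h2 := hrange P.φ₂ hrot2
  have hb'N : b' ∈ N := P.le₂ _
  have hb'not : ∀ p, P.φ₁ p ≠ b' := by
    intro p hp
    have e1 := P.swap₁ (.r 1, .r 0)
    rw [← hb', ← hp, ← map_inv, ← map_mul, ← map_mul] at e1
    exact hd p (P.inj₁ e1)
  have hr36 : Nat.card P.φ₁.range = 36 := by
    rw [← Nat.card_congr (MonoidHom.ofInjective P.inj₁).toEquiv, Nat.card_prod,
      DihedralGroup.nat_card]
  have hr1N : P.φ₁.range ≤ N := by rintro _ ⟨p, rfl⟩; exact P.le₁ p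
  -- the two cosets
  have hcases : ∀ n ∈ N, (∃ p, n = P.φ₁ p) ∨ ∃ p, n = b' * P.φ₁ p := by
    have hi : (P.φ₁.range.subgroupOf N).index = 2 := by
      have h := Subgroup.index_mul_card (P.φ₁.range.subgroupOf N)
      rw [Nat.card_congr (subgroupOfEquivOfLe hr1N).toEquiv, hr36, P.card_N] at h
      omega
    intro n hn
    by_cases hc : n ∈ P.φ₁.range
    · obtain ⟨p, hp⟩ := hc
      exact Or.inl ⟨p, hp.symm⟩
    · right
      have hb0 : (⟨b', hb'N⟩ : N)⁻¹ * ⟨n, hn⟩ ∈ P.φ₁.range.subgroupOf N := by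
        rw [Subgroup.mul_mem_iff_of_index_two hi, inv_mem_iff, mem_subgroupOf, mem_subgroupOf]
        exact iff_of_false (fun ⟨p, hp⟩ => hb'not p hp) hc
      obtain ⟨p, hp⟩ := mem_subgroupOf.mp hb0
      exact ⟨p, by rw [hp]; simp⟩
  have hpm : ∀ n ∈ N, l n * l n = 1 := by
    intro n hn
    have hp1 : ∀ p, l (P.φ₁ p) * l (P.φ₁ p) = 1 := fun p => by
      rw [h1 p haa']
      split_ifs
      · exact one_mul 1
      · exact hinvol _ _ hsa
    rcases hcases n hn with ⟨p, rfl⟩ | ⟨p, rfl⟩
    · exact hp1 p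
    · rw [map_mul, mul_mul_mul_comm, hp1 p, mul_one]
      exact hinvol _ _ hsb
  have htop : N ⊔ K = ⊤ := Sylow.normalizer_sup_eq_top' T hTK
  have hpmall : ∀ g, l g * l g = 1 := by
    let S : Subgroup G := (powMonoidHom 2 : ℂˣ →* ℂˣ).ker.comap l
    have hS : ∀ g, g ∈ S ↔ l g * l g = 1 := fun g => by
      simp [S, MonoidHom.mem_ker, pow_two]
    have : N ⊔ K ≤ S := sup_le (fun n hn => (hS n).mpr (hpm n hn))
      (fun k hk => (hS k).mpr (by rw [show l k = 1 from hk, one_mul]))
    exact fun g => (hS g).mp (this (htop ▸ Subgroup.mem_top g))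
  have hsign : ∀ g, l g = 1 ∨ l g = -1 := fun g => by
    rcases mul_self_eq_one_iff.mp (show (l g : ℂ) * l g = 1 by
      rw [← Units.val_mul, hpmall g, Units.val_one]) with e | e
    · exact Or.inl (Units.ext e)
    · exact Or.inr (Units.ext (by simpa using e))
  obtain ⟨r0, hr0⟩ : ∃ r, l r = -1 := by
    by_contra hcon
    push Not at hcon
    exact hKne ((Subgroup.eq_top_iff' K).mpr fun g => (hsign g).resolve_right (hcon g))
  have hidx : K.index = 2 := by
    refine Subgroup.index_eq_two_iff'.mpr ⟨r0, fun g => ?_⟩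
    rcases hsign g with e | e
    · exact Or.inr ⟨e, fun h => by
        have h' : l (r0 * g) = 1 := h
        rw [map_mul, e, hr0, mul_one] at h'
        exact absurd (congrArg Units.val h') (by norm_num)⟩
    · exact Or.inl ⟨show l (r0 * g) = 1 by rw [map_mul, e, hr0]; simp, fun h => by
        have h' : l g = 1 := h
        rw [e] at h'
        exact absurd (congrArg Units.val h') (by norm_num)⟩
  have h36 : Nat.card (N ⊓ K : Subgroup G) = 36 := by
    have h3 : (K.subgroupOf N).index = 2 := by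
      have := Subgroup.relIndex_sup_right N K
      rw [htop, Subgroup.relIndex_top_right, hidx] at this
      exact this.symm
    have h := Subgroup.index_mul_card (K.subgroupOf N)
    rw [h3, P.card_N, ← Subgroup.card_map_of_injective N.subtype_injective,
      Subgroup.subgroupOf_map_subtype] at h
    rw [inf_comm]
    omega
  by_cases hα : l a = 1
  · left
    refine normal_of_four hTK hcard hel hcomm hC hloc P.φ₁ P.inj₁ P.rot_mem ?_ h36
    rintro _ ⟨p, rfl⟩
    refine ⟨P.le₁ p, ?_⟩
    show l _ = 1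
    rw [h1 p haa', ← ha, hα, ite_self]
  by_cases hβ : l b = 1
  · left
    refine normal_of_four hTK hcard hel hcomm hC hloc P.φ₂ P.inj₂ hrot2 ?_ h36
    rintro _ ⟨p, rfl⟩
    refine ⟨P.le₂ p, ?_⟩
    show l _ = 1
    rw [h2 p hbb', ← hb, hβ, ite_self]
  have hα' : l a = -1 := (hsign a).resolve_left hα
  have hβ' : l b' = -1 := hbb'.trans ((hsign b).resolve_left hβ)
  have hfree : ∀ g ∈ K, ∀ t ∈ (T : Subgroup G), t ≠ 1 → g * t = t * g →
      g ∈ (T : Subgroup G) := by
    intro g hg t ht ht1 hgt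
    have hgN : g ∈ N := hloc t ht ht1 (mem_centralizer_singleton_iff.mpr hgt)
    obtain ⟨i, j, hij⟩ := P.memT t ht
    have hne : i ≠ 0 ∨ j ≠ 0 := by
      by_contra hcon
      push Not at hcon
      obtain ⟨rfl, rfl⟩ := hcon
      exact ht1 (hij ▸ map_one P.φ₁)
    have hgc : g * t * g⁻¹ = t := mul_inv_eq_iff_eq_mul.mpr hgt
    rcases hcases g hgN with ⟨p, rfl⟩ | ⟨p, rfl⟩
    · have hev : isEven p = true := by
        by_contra hcon
        have hk : l (P.φ₁ p) = 1 := hg
        rw [h1 p haa', if_neg hcon, ← ha] at hk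
        exact hα hk
      rw [← hij, ← map_inv, ← map_mul, ← map_mul] at hgc
      obtain ⟨i', j', hp⟩ := rot_form p (even_free p i j hev hne (P.inj₁ hgc))
      rw [hp]; exact P.rot_mem _ _
    · have hev : isEven p = false := by
        by_contra hcon
        rw [Bool.not_eq_false] at hcon
        have hk : l (b' * P.φ₁ p) = 1 := hg
        rw [map_mul, h1 p haa', if_pos hcon, mul_one] at hk
        exact absurd (congrArg Units.val (hk.symm.trans hβ')) (by norm_num)
      have e : b' * P.φ₁ p * t * (b' * P.φ₁ p)⁻¹ = P.φ₁ (p * ((.r i, .r j) : DD) * p⁻¹).swap := by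
        rw [← P.swap₁, ← hb', map_mul, map_mul, map_inv, hij]
        group
      rw [e, ← hij] at hgc
      exact absurd (P.inj₁ hgc) (odd_free p i j hev hne)
  have hK : Hyp (T.subtype hTK) := by
    refine ⟨?_, fun t ht => ?_, fun t ht ht1 => ?_⟩
    · rw [Sylow.coe_subtype, Nat.card_congr (subgroupOfEquivOfLe hTK).toEquiv, hcard]
    · rw [Sylow.coe_subtype, mem_subgroupOf] at ht
      exact Subtype.ext (by simpa using hel _ ht)
    · rw [Sylow.coe_subtype, mem_subgroupOf] at ht
      ext g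
      rw [Sylow.coe_subtype, mem_subgroupOf, mem_centralizer_singleton_iff]
      exact ⟨fun e => hfree g g.2 _ ht (fun e' => ht1 (Subtype.ext e')) (congrArg Subtype.val e),
        fun e => Subtype.ext (hcomm _ e _ ht)⟩
  have hn36 : Nat.card (normalizer ((T.subtype hTK : Subgroup K) : Set K)) = 36 := by
    rw [card_normalizer_subtype T hTK]; exact h36
  have h2c : TwoClasses (T.subtype hTK) := by
    haveI := Fintype.ofFinite K
    obtain ⟨B⟩ := hK.exists_basis'
    refine ⟨B.a, B.ha, ?_⟩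
    by_contra hcon
    push Not at hcon
    have e := hK.card_class B.ha B.ha1
    rw [hn36, Nat.subtype_card ((Finset.univ.filter fun s : K => s ∈ (T.subtype hTK : Subgroup K)).erase 1)
      (fun s => by
        simp only [Finset.mem_erase, Finset.mem_filter, Finset.mem_univ, true_and]
        exact ⟨fun h => ⟨h.2, hcon s h.2 B.ha1 h.1⟩,
          fun h => ⟨fun h1 => B.ha1 (isConj_one_left.mp (h1 ▸ h.2)), h.1⟩⟩),
      Finset.card_erase_of_mem (Finset.mem_filter.mpr ⟨Finset.mem_univ _, one_mem _⟩),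
      ← Nat.subtype_card (p := fun s : K => s ∈ (T.subtype hTK : Subgroup K))
        (Finset.univ.filter fun s : K => s ∈ (T.subtype hTK : Subgroup K))
        (fun s => ⟨fun h => (Finset.mem_filter.mp h).2,
          fun h => Finset.mem_filter.mpr ⟨Finset.mem_univ _, h⟩⟩),
      show Nat.card {s : K // s ∈ (T.subtype hTK : Subgroup K)} = 9 from hK.card] at e
    omega
  rcases hK.normal_or_iso h2c with hn | ⟨-, ⟨e⟩⟩
  · exact Or.inl (normal_of_normal_subtype T hTK hn)
  right
  have hcentK : ∀ g : G, (∀ k ∈ K, g * k = k * g) → g = 1 := by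
    intro g hg
    by_contra hne
    have hgT : g ∈ (T : Subgroup G) := hC ▸ mem_centralizer_iff.mpr fun t ht => (hg t (hTK ht)).symm
    have htop' := hK.cent ⟨g, hTK hgT⟩ (by rw [Sylow.coe_subtype, mem_subgroupOf]; exact hgT)
      (fun e => hne (congrArg Subtype.val e))
    rw [show centralizer ({⟨g, hTK hgT⟩} : Set K) = ⊤ from (Subgroup.eq_top_iff' _).mpr fun k =>
      mem_centralizer_singleton_iff.mpr (Subtype.ext (hg k k.2).symm)] at htop'
    have hc := congrArg (fun H : Subgroup K => Nat.card H) htop'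
    simp only [Subgroup.card_top, hK.card] at hc
    have h9K := Nat.le_of_dvd Nat.card_pos
      (Subgroup.card_dvd_of_le (show N ⊓ K ≤ K from inf_le_right))
    rw [h36, hc] at h9K
    omega
  refine iso_symSix K e hidx hcentK (r := a) ?_ ⟨P.φ₁ (1, .r 1), hTK (P.rot_mem 0 1)⟩ ?_ ?_ ?_
  · exact fun h => hα h
  · apply Subtype.ext
    show P.φ₁ _ * P.φ₁ _ * P.φ₁ _ = 1
    rw [← map_mul, ← map_mul, hx3, map_one]
  · intro h
    have hh : P.φ₁ (1, .r 1) = P.φ₁ 1 := (congrArg Subtype.val h).trans (map_one _).symm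
    exact hx1 (P.inj₁ hh)
  · rw [ha, ← map_mul, ← map_mul, hcx]

end Cfsg.Agent.Block.NineCC
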